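import Cfsg.Agent.Lib.Fusion.Components.Fitting

/-!
The factors of a central product which lie in the product are weakly normal in it, and every
component of the product is a component of a factor.
-/

set_option autoImplicit false
set_option linter.unusedSectionVars false

namespace Cfsg.Agent.Fusion.Components

open Cfsg Cfsg.FusionSystem Cfsg.Agent.Fusion

universe u

variable {Ω : Type u} [Group Ω] {S T U : Subgroup Ω} {F : FusionSystem S} {p : ℕ}
  {S₁ S₂ : Subgroup Ω} {F₁ : FusionSystem S₁} {F₂ : FusionSystem S₂}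

/-- On the first factor of a central product all maps are maps of that factor. -/
theorem factor_hom_left (hc : IsCentralProductOf F₁ F₂ F) {R : Subgroup Ω} (hR : R ≤ S₁) :
    F.Hom R ⊆ F₁.Hom R := by
  intro φ hφ
  obtain ⟨D₀, hD₀, Z, θ, -, -, -, hl, -, hfac⟩ := hc
  obtain ⟨-, ψ, hψ, hP, hψS, hm, hi⟩ := (hfac.2.2.2 R φ).1 hφ
  obtain ⟨-, φ₁, hφ₁, φ₂, hφ₂, hv⟩ := (hD₀ _ ψ).1 hψ
  have hmem : ∀ x ∈ R, ((x, 1) : Ω × Ω) ∈ preimageAlong θ R := fun x hx =>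
    mem_preimageAlong.2 ⟨⟨hR hx, one_mem _⟩, (hl x _).symm ▸ hx⟩
  have hproj : R ≤ (preimageAlong θ R).map (MonoidHom.fst Ω Ω) := fun x hx =>
    ⟨_, hmem x hx, rfl⟩
  refine mem_of_le hφ₁ hproj fun x => ?_
  have h2 : (1 : Ω) ∈ (preimageAlong θ R).map (MonoidHom.snd Ω Ω) := one_mem _
  have h1 := hi ⟨_, hmem x x.2⟩
  have e1 : (⟨θ ⟨((x : Ω), 1), hP (hmem x x.2)⟩, hm ⟨_, hmem x x.2⟩⟩ : R) = x :=
    Subtype.ext (hl x _)
  have e2 : ψ ⟨_, hmem x x.2⟩ = (φ₁ (Subgroup.inclusion hproj x), 1) :=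
    (hv ⟨_, hmem x x.2⟩ (hproj x.2) h2).trans (congrArg (Prod.mk _) (map_one φ₂))
  rw [e1] at h1
  rw [h1, show (⟨ψ ⟨_, hmem x x.2⟩, hψS _⟩ : ↥(S₁.prod S₂)) =
    ⟨(φ₁ (Subgroup.inclusion hproj x), 1), e2 ▸ hψS _⟩ from Subtype.ext e2]
  exact hl _ _

/-- On the second factor of a central product all maps are maps of that factor. -/
theorem factor_hom_right (hc : IsCentralProductOf F₁ F₂ F) {R : Subgroup Ω} (hR : R ≤ S₂) :
    F.Hom R ⊆ F₂.Hom R := by
  intro φ hφ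
  obtain ⟨D₀, hD₀, Z, θ, -, -, -, -, hr, hfac⟩ := hc
  obtain ⟨-, ψ, hψ, hP, hψS, hm, hi⟩ := (hfac.2.2.2 R φ).1 hφ
  obtain ⟨-, φ₁, hφ₁, φ₂, hφ₂, hv⟩ := (hD₀ _ ψ).1 hψ
  have hmem : ∀ x ∈ R, ((1, x) : Ω × Ω) ∈ preimageAlong θ R := fun x hx =>
    mem_preimageAlong.2 ⟨⟨one_mem _, hR hx⟩, (hr x _).symm ▸ hx⟩
  have hproj : R ≤ (preimageAlong θ R).map (MonoidHom.snd Ω Ω) := fun x hx =>
    ⟨_, hmem x hx, rfl⟩
  refine mem_of_le hφ₂ hproj fun x => ?_
  have h2 : (1 : Ω) ∈ (preimageAlong θ R).map (MonoidHom.fst Ω Ω) := one_mem _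
  have h1 := hi ⟨_, hmem x x.2⟩
  have e1 : (⟨θ ⟨(1, (x : Ω)), hP (hmem x x.2)⟩, hm ⟨_, hmem x x.2⟩⟩ : R) = x :=
    Subtype.ext (hr x _)
  have e2 : ψ ⟨_, hmem x x.2⟩ = (1, φ₂ (Subgroup.inclusion hproj x)) :=
    (hv ⟨_, hmem x x.2⟩ h2 (hproj x.2)).trans (congrArg (Prod.mk · _) (map_one φ₁))
  rw [e1] at h1
  rw [h1, show (⟨ψ ⟨_, hmem x x.2⟩, hψS _⟩ : ↥(S₁.prod S₂)) =
    ⟨(1, φ₂ (Subgroup.inclusion hproj x)), e2 ▸ hψS _⟩ from Subtype.ext e2]
  exact hr _ _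

/-- The base of a central product is generated by the bases of the factors. -/
theorem base_le_sup (hc : IsCentralProductOf F₁ F₂ F) : S ≤ S₁ ⊔ S₂ := by
  obtain ⟨D₀, -, Z, θ, -, -, -, hl, hr, hfac⟩ := hc
  intro x hx
  obtain ⟨⟨⟨a, b⟩, ha, hb⟩, rfl⟩ := hfac.2.2.1.ge hx
  have h1 : (⟨(a, b), ha, hb⟩ : ↥(S₁.prod S₂)) =
      ⟨(a, 1), ha, one_mem _⟩ * ⟨(1, b), one_mem _, hb⟩ :=
    Subtype.ext (Prod.ext (mul_one a).symm (one_mul b).symm)
  rw [h1, map_mul]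
  exact mul_mem (Subgroup.mem_sup_left ((hl a _).symm ▸ ha))
    (Subgroup.mem_sup_right ((hr b _).symm ▸ hb))

variable [Finite S] [Fact p.Prime]

/-- A subsystem containing all maps on its base is weakly normal. -/
theorem weaklyNormal_of_local (hS : IsPGroup p S) (hF : F.IsSaturated p) {L : FusionSystem T}
    (hL : L.IsSaturated p) (hsub : L.IsSubsystemOf F)
    (hloc : ∀ Q : Subgroup Ω, Q ≤ T → F.Hom Q ⊆ L.Hom Q) : L.IsWeaklyNormalIn F p := by
  have hTS := ComponentCore.le_of_subsystem hsub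
  have := finite_of_le (Ω := Ω) hTS
  have hclosed : F.StronglyClosed T := ⟨hTS, fun P hP φ hφ x => apply_mem (hloc P hP hφ) x⟩
  exact ⟨hL, hF, isInvariantIn_of_stronglyInvariant hS hF hsub hclosed
    fun P Q hPQ hQ φ hφ hφQ ψ hψ => stronglyInvariant_of_invariant (isNormalIn_self hL).1.2.2
      P Q hPQ hQ φ hφ hφQ ψ (hloc Q hQ hψ)⟩

/-- A component of `F` is a component of such a subsystem or centralizes its base. -/
theorem dich_local (hS : IsPGroup p S) (hF : F.IsSaturated p) {L : FusionSystem T}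
    (hL : L.IsSaturated p) (hsub : L.IsSubsystemOf F)
    (hloc : ∀ Q : Subgroup Ω, Q ≤ T → F.Hom Q ⊆ L.Hom Q)
    {C : FusionSystem U} (hC : C.IsComponentIn F p) :
    C.IsComponentIn L p ∨ ∀ a ∈ U, ∀ b ∈ T, a * b = b * a := by
  have hTS := ComponentCore.le_of_subsystem hsub
  have := finite_of_le (Ω := Ω) hTS
  rcases dich hS hF U C hC T _ (ResidualNormal.isNormalIn_residual hS
    (weaklyNormal_of_local hS hF hL hsub hloc)) with h | h
  · exact Or.inl ⟨.step h.1 (PPrimeResidual.isNormalIn_residual (hS.to_le hTS) hL), h.2⟩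
  · exact Or.inr fun a ha b hb => bases_commute h ha hb

/-- **Components of a central product are components of the factors.** -/
theorem component_of_centralProduct (hS : IsPGroup p S) (hF : F.IsSaturated p)
    (h₁ : F₁.IsSaturated p) (h₂ : F₂.IsSaturated p) (h₁F : F₁.IsSubsystemOf F)
    (h₂F : F₂.IsSubsystemOf F) (hc : IsCentralProductOf F₁ F₂ F)
    {C : FusionSystem U} (hC : C.IsComponentIn F p) :
    C.IsComponentIn F₁ p ∨ C.IsComponentIn F₂ p := by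
  rcases dich_local hS hF h₁ h₁F (fun Q => factor_hom_left hc) hC with h | hA
  · exact Or.inl h
  rcases dich_local hS hF h₂ h₂F (fun Q => factor_hom_right hc) hC with h | hB
  · exact Or.inr h
  have hUS : U ≤ S := Transport.subnormal_le hC.1
  have := finite_of_le (Ω := Ω) hUS
  refine (S5148.result p (hS.to_le hUS) C hC.2 ⟨⟨fun x y => Subtype.ext ?_⟩⟩).elim
  have hle : S₁ ⊔ S₂ ≤ Subgroup.centralizer ({(x : Ω)} : Set Ω) := sup_le
    (fun b hb => Subgroup.mem_centralizer_singleton_iff.2 (hA x x.2 b hb).symm)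
    (fun b hb => Subgroup.mem_centralizer_singleton_iff.2 (hB x x.2 b hb).symm)
  exact (Subgroup.mem_centralizer_singleton_iff.1 (hle (base_le_sup hc (hUS y.2)))).symm

end Cfsg.Agent.Fusion.Components
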