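import Cfsg.Agent.Lib.Fusion.Components.Step
import Cfsg.Agent.Lib.Fusion.ComponentConj
import Cfsg.Agent.Lib.Fusion.ComponentCore
import Cfsg.Agent.Lib.Transfer.Residual
import Cfsg.Agent.S5148

/-!
A component `C` of a normal subsystem `D` over `T` centralizing `T ⊓ V`, `V` strongly closed,
centralizes `V`, provided the bases of the components of `D` commute pairwise.
-/

set_option autoImplicit false
set_option linter.unusedSectionVars false

namespace Cfsg.Agent.Fusion.Components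

open Cfsg Cfsg.FusionSystem Cfsg.Agent.Fusion

universe u

variable {Ω : Type u} [Group Ω] {S T V U : Subgroup Ω} {F : FusionSystem S} {D : FusionSystem T}
  {C : FusionSystem U} {p : ℕ} [Finite S] [Fact p.Prime]

theorem component_le (hC : C.IsComponentIn D p) : U ≤ T :=
  Transport.subnormal_le hC.1

theorem base_centralizes (hC : C.IsComponentIn D p)
    (hcen : ∀ P, C.Hom P ⊆ D.centralizerHom (T ⊓ V) P) {x r : Ω} (hx : x ∈ U) (hr : r ∈ T ⊓ V) :
    r * x = x * r := by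
  obtain ⟨-, hU, -⟩ := hcen U (subtype_mem C le_rfl)
  exact (mem_centralizerIn.1 (hU hx)).2 r hr

/-- A strongly closed `V` normalizes the base of such a component. -/
theorem le_normalizer_component (hS : IsPGroup p S) (hD : D.IsNormalIn F p)
    (hV : F.StronglyClosed V) (hC : C.IsComponentIn D p)
    (hcen : ∀ P, C.Hom P ⊆ D.centralizerHom (T ⊓ V) P)
    (hcomm : ∀ (U' : Subgroup Ω) (C' : FusionSystem U'), C'.IsComponentIn D p →
      U' = U ∨ ∀ a ∈ U, ∀ b ∈ U', a * b = b * a) :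
    V ≤ Subgroup.normalizer (U : Set Ω) := by
  have hT : F.StronglyClosed T := hD.1.2.2.2.1
  have := finite_of_le (Ω := Ω) hT.1
  have hUT := component_le hC
  have := finite_of_le (Ω := Ω) (hUT.trans hT.1)
  intro t ht
  have htN := le_normalizer_of_stronglyClosed hT (hV.1 ht)
  have hα : conjAut htN ∈ F.autGroup T :=
    autInducedBy_le_autGroup F hT.1 (conjAut_mem_autInducedBy (hV.1 ht) htN)
  have hiso : IsIsoAlong D D (T.subtype.comp (conjAut htN).toMonoidHom) :=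
    Transport.isIsoAlong_of_aut D (F.autGroup T)
      (fun P hP φ hφ a ha => hD.1.2.2.2.2.1 P hP φ hφ a ha) _ hα
  obtain ⟨C', hC'⟩ := Transport.exists_image hiso C hUT
  have hC'D : C'.IsComponentIn D p :=
    ⟨Transport.isSubnormalIn_fwd hC.1 hiso hUT hC', Transport.quasisimple_fwd hC' hC.2⟩
  have hmem : ∀ x ∈ U, t * x * t⁻¹ ∈ imageAlong (T.subtype.comp (conjAut htN).toMonoidHom) U :=
    fun x hx => ⟨⟨x, hUT hx⟩, hx, rfl⟩
  rcases hcomm _ C' hC'D with heq | hab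
  · refine mem_normalizer_of_forall fun x hx => ?_
    exact heq ▸ hmem x hx
  · refine absurd ⟨⟨fun x y => Subtype.ext ?_⟩⟩ (S5148.result p
      (hS.to_le (hUT.trans hT.1)) C hC.2)
    show (x : Ω) * y = y * x
    -- `y` differs from its conjugate by an element centralized by `U`
    set r : Ω := (y : Ω)⁻¹ * (t * y * t⁻¹) with hr
    have hrR : r ∈ T ⊓ V := by
      refine ⟨T.mul_mem (T.inv_mem (hUT y.2))
        ((Subgroup.mem_normalizer_iff.1 htN _).1 (hUT y.2)), ?_⟩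
      have h1 := (Subgroup.mem_normalizer_iff.1
        (le_normalizer_of_stronglyClosed hV (S.inv_mem (hT.1 (hUT y.2)))) t).1 ht
      rw [inv_inv] at h1
      rw [hr, show (y : Ω)⁻¹ * (t * y * t⁻¹) = (y : Ω)⁻¹ * t * y * t⁻¹ by group]
      exact V.mul_mem h1 (V.inv_mem ht)
    have hy : (y : Ω) = (t * y * t⁻¹) * r⁻¹ := by rw [hr]; group
    have h1 : Commute (x : Ω) (t * y * t⁻¹) := hab x x.2 _ (hmem y y.2)
    have h2 : Commute (x : Ω) r⁻¹ := (base_centralizes hC hcen x.2 hrR).symm |> Commute.inv_right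
    rw [hy]
    exact h1.mul_right h2

/-- Such a component commutes with `V`. -/
theorem commutes_of_inf (hS : IsPGroup p S) (hD : D.IsNormalIn F p)
    (hV : F.StronglyClosed V) (hC : C.IsComponentIn D p)
    (hcen : ∀ P, C.Hom P ⊆ D.centralizerHom (T ⊓ V) P)
    (hcomm : ∀ (U' : Subgroup Ω) (C' : FusionSystem U'), C'.IsComponentIn D p →
      U' = U ∨ ∀ a ∈ U, ∀ b ∈ U', a * b = b * a) {t x : Ω} (ht : t ∈ V) (hx : x ∈ U) :
    t * x = x * t := by
  obtain ⟨⟨hDs, hF, hDi⟩, -⟩ := id hD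
  have hT : F.StronglyClosed T := hDi.2.1
  have hUT := component_le hC
  have hUS := hUT.trans hT.1
  have := finite_of_le (Ω := Ω) hUS
  have := finite_of_le (Ω := Ω) hT.1
  have hUp : IsPGroup p U := hS.to_le hUS
  have htN := le_normalizer_component hS hD hV hC hcen hcomm ht
  have hsub : ∀ P, C.Hom P ⊆ F.Hom P := fun P φ hφ =>
    hDi.1 P (ComponentCore.isSubsystem_of_subnormal hC.1 P hφ)
  -- the map `y ↦ y⁻¹ t y t⁻¹`
  set f : Ω → Ω := fun y => y⁻¹ * (t * y * t⁻¹) with hf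
  have hfU : ∀ y ∈ U, f y ∈ U := fun y hy =>
    U.mul_mem (U.inv_mem hy) ((Subgroup.mem_normalizer_iff.1 htN y).1 hy)
  have hfR : ∀ y ∈ U, f y ∈ T ⊓ V := fun y hy => by
    refine ⟨hUT (hfU y hy), ?_⟩
    have h1 := (Subgroup.mem_normalizer_iff.1
      (le_normalizer_of_stronglyClosed hV (S.inv_mem (hUS hy))) t).1 ht
    rw [inv_inv] at h1
    show y⁻¹ * (t * y * t⁻¹) ∈ V
    rw [show y⁻¹ * (t * y * t⁻¹) = y⁻¹ * t * y * t⁻¹ by group]
    exact V.mul_mem h1 (V.inv_mem ht)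
  have hfc : ∀ y ∈ U, ∀ z ∈ U, f y * z = z * f y := fun y hy z hz =>
    base_centralizes hC hcen hz (hfR y hy)
  have hfmul : ∀ y ∈ U, ∀ z ∈ U, f (y * z) = f y * f z := by
    intro y hy z hz
    show (y * z)⁻¹ * (t * (y * z) * t⁻¹) = _
    rw [show (y * z)⁻¹ * (t * (y * z) * t⁻¹) = z⁻¹ * f y * (t * z * t⁻¹) by rw [hf]; group]
    rw [← hfc y hy z⁻¹ (U.inv_mem hz), mul_assoc]
  have hf1 : f 1 = 1 := by rw [hf]; group
  let fh : U →* Ω := MonoidHom.mk' (fun y => f y) fun y z => hfmul y y.2 z z.2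
  -- `f` is constant on the classes of `C`
  have hinv : ∀ (P : Subgroup Ω) (φ : P →* Ω), φ ∈ C.Hom P →
      ∀ y : P, f (φ y) = f (y : Ω) := by
    intro P φ hφ
    refine alperin_induction (C := fun P φ => ∀ y : P, f (φ y) = f (y : Ω)) hUp hC.2.1
      (fun Q g hQ hg y => ?_) (fun P Q φ ψ _ _ h1 h2 h y => ?_)
      (fun P φ ψ _ h1 hψ hi y => ?_) (fun R₁ _ hR₁c _ α hα y => ?_) hφ
    · show f (g * y * g⁻¹) = f y
      have hy := hQ y.2
      rw [hfmul _ (U.mul_mem hg hy) _ (U.inv_mem hg), hfmul _ hg _ hy,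
        hfc g hg (f y) (hfU _ hy), mul_assoc, ← hfmul _ hg _ (U.inv_mem hg), mul_inv_cancel, hf1,
        mul_one]
    · exact (h2 ⟨φ y, h y⟩).trans (h1 y)
    · obtain ⟨_, x, rfl⟩ := y
      rw [hi x]
      exact (h1 x).symm
    have hR₁U := hR₁c.1
    have hfR₁ : ∀ y ∈ U, f y ∈ R₁ := fun y hy => isCentric_centralizerIn_le hR₁c
      (mem_centralizerIn.2 ⟨hfU y hy, fun z hz => (hfc y hy z (hR₁U hz)).symm⟩)
    have := finite_autGroup (F := C) hR₁U
    let H : Subgroup (C.autGroup R₁) :=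
      { carrier := {a | ∀ y : R₁, f (((a : MulAut R₁) y : R₁) : Ω) = f y}
        one_mem' := fun y => rfl
        mul_mem' := fun {a b} ha hb y => (ha _).trans (hb y)
        inv_mem' := fun {a} ha y => by
          have h := ha ((a : MulAut R₁)⁻¹ y)
          rw [MulAut.apply_inv_self] at h
          exact h.symm }
    suffices htop : H = ⊤ from (htop.ge (Subgroup.mem_top (⟨α, hα⟩ : C.autGroup R₁))) y
    have hn : C.IsFullyNormalized R₁ := ‹_›
    obtain ⟨-, Y, hY⟩ := isFullyAutomized_of_fullyNormalized hUp hC.2.1 hn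
    rw [eq_top_iff, ← Transfer.sylow_sup_pResidual_eq_top Y]
    refine sup_le (fun a ha z => ?_) ((Subgroup.closure_le _).2 fun a ha => ?_)
    · rw [hY] at ha
      obtain ⟨g, hg, hga⟩ := mem_autInducedBy_iff.1 (Subgroup.mem_subgroupOf.1 ha)
      rw [hga]
      have hz := hR₁U z.2
      rw [hfmul _ (U.mul_mem hg hz) _ (U.inv_mem hg), hfmul _ hg _ hz,
        hfc g hg (f z) (hfU _ hz), mul_assoc, ← hfmul _ hg _ (U.inv_mem hg), mul_inv_cancel, hf1,
        mul_one]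
    -- an element of order prime to `p`: move to a fully normalized conjugate in `F`
    intro z
    have hR₁S := hR₁U.trans hUS
    have := finite_of_le (Ω := Ω) hR₁S
    have htR₁ : t ∈ Subgroup.normalizer (R₁ : Set Ω) := mem_normalizer_of_forall fun w hw => by
      rw [show t * w * t⁻¹ = w * f w by rw [hf]; group]
      exact R₁.mul_mem hw (hfR₁ w (hR₁U hw))
    obtain ⟨R₂, hconj, hR₂⟩ := exists_fullyNormalized F hR₁S
    obtain ⟨χ, hχ, hχN, hχR⟩ := exists_hom_fullyNormalized hS hF hR₂ hconj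
    have hle : R₁ ≤ normalizerIn S R₁ := le_normalizerIn hR₁S
    have htN' : t ∈ normalizerIn S R₁ := ⟨hV.1 ht, htR₁⟩
    have hφ := restrict_mem hχ hle
    have hr : (χ.comp (Subgroup.inclusion hle)).range = R₂ := by
      rw [MonoidHom.range_comp, Subgroup.inclusion_range, hχR]
    set e := homEquiv hφ hr with he
    have hR₂T : R₂ ≤ T := by
      rw [← hr]
      rintro _ ⟨w, rfl⟩
      exact hT.2 R₁ (hR₁U.trans hUT) _ hφ w
    set b : MulAut R₁ := (a : MulAut R₁) with hb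
    have hbD : b ∈ D.autGroup R₁ :=
      autGroup_le_of_subsystem (ComponentCore.isSubsystem_of_subnormal hC.1) hR₁U a.2
    have hbfix : ∀ w : R₁, (w : Ω) ∈ T ⊓ V → b w = w := by
      intro w hw
      obtain ⟨-, -, -, ψ, -, hψP, hψR⟩ := hcen R₁ ((mem_autGroup_iff hR₁U).1 a.2)
      exact Subtype.ext ((hψP w).symm.trans
        ((congrArg ψ (Subtype.ext rfl)).trans (hψR ⟨w, hw⟩)))
    -- `χ` maps `T ⊓ V` onto itself
    have hRle : T ⊓ V ≤ normalizerIn S R₁ := fun r hr' =>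
      centralizerIn_le_normalizerIn S R₁ (mem_centralizerIn.2 ⟨hT.1 hr'.1, fun w hw =>
        (base_centralizes hC hcen (hR₁U hw) hr').symm⟩)
    have hR₂c : ∀ r ∈ T ⊓ V, ∀ w ∈ R₂, r * w = w * r := by
      have hRcl : F.StronglyClosed (T ⊓ V) := ⟨inf_le_left.trans hT.1, fun P hP φ hφ x =>
        ⟨hT.2 P (hP.trans inf_le_left) φ hφ x, hV.2 P (hP.trans inf_le_right) φ hφ x⟩⟩
      have hres := restrict_mem hχ hRle
      have := finite_of_le (Ω := Ω) hRcl.1
      have hrR := range_eq_of_le hres hRcl.1 (fun w => hRcl.2 _ le_rfl _ hres w) le_rfl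
      intro r hr' w hw
      obtain ⟨r₀, rfl⟩ := hrR.ge hr'
      obtain ⟨w₀, rfl⟩ := hr.ge hw
      show χ (Subgroup.inclusion hRle r₀) * χ (Subgroup.inclusion hle w₀) = _
      rw [← map_mul]
      refine Eq.trans (congrArg χ (Subtype.ext ?_)) (map_mul χ _ _)
      exact base_centralizes hC hcen (hR₁U w₀.2) r₀.2
    have hfix₂ : ∀ w : R₂, (w : Ω) ∈ V → MulAut.congr e b w = w := by
      intro w hw
      obtain ⟨w₀, rfl⟩ := e.surjective w
      rw [congr_apply, hbfix w₀ ⟨hUT (hR₁U w₀.2), ?_⟩]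
      obtain ⟨η, hη, -, hηi, -⟩ := exists_inverse hφ hr
      refine Set.mem_of_eq_of_mem (hηi w₀ (e w₀).2).symm ?_
      exact apply_mem_closed hV hη (e w₀) hw
    have hc₂ : (orderOf (MulAut.congr e b)).Coprime p := by
      rw [MulEquiv.orderOf_eq, hb, Subgroup.orderOf_coe]
      exact ha
    have ht₂ : χ ⟨t, htN'⟩ ∈ V := apply_mem_closed hV hχ _ ht
    have key := commute_of_fix hS hD hV hR₂ hR₂T hR₂c
      (NormalExtensions.congr_mem_E hDi (hR₁U.trans hUT) hφ hr hbD) hc₂ hfix₂ ht₂ (hχN _).2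
    have h1 := DFunLike.congr_fun key (e z)
    have h2 : ∀ w : R₁, conjAut (hχN ⟨t, htN'⟩).2 (e w) = e (conjAut htR₁ w) := fun w =>
      Subtype.ext (by
        show χ ⟨t, htN'⟩ * χ (Subgroup.inclusion hle w) * (χ ⟨t, htN'⟩)⁻¹ = _
        rw [← map_inv, ← map_mul, ← map_mul]
        exact congrArg χ (Subtype.ext rfl))
    rw [MulAut.mul_apply, MulAut.mul_apply, h2, congr_apply, congr_apply, h2] at h1
    have h3 := e.injective h1
    -- so `b` fixes `f z` and commutes with conjugation by `t`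
    have h4 : conjAut htR₁ z = z * ⟨f z, hfR₁ z (hR₁U z.2)⟩ := Subtype.ext (by
      show t * (z : Ω) * t⁻¹ = (z : Ω) * ((z : Ω)⁻¹ * (t * z * t⁻¹))
      group)
    rw [h4, map_mul, hbfix ⟨f z, _⟩ (hfR z (hR₁U z.2))] at h3
    show ((b z : R₁) : Ω)⁻¹ * (t * (b z : R₁) * t⁻¹) = f z
    rw [show t * ((b z : R₁) : Ω) * t⁻¹ = ((b z : R₁) : Ω) * f z from
      (congrArg Subtype.val h3).symm, inv_mul_cancel_left]
  -- so `f` kills the hyperfocal subgroup
  have hker : C.hyperfocalSubgroup p ≤ fh.ker.map U.subtype := by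
    refine (Subgroup.closure_le _).2 ?_
    rintro _ ⟨P, α, y, hP, -, rfl⟩
    have hy := hP y.2
    have hay := hP ((α : MulAut P) y).2
    refine ⟨⟨_, U.mul_mem (U.inv_mem hy) hay⟩, ?_, rfl⟩
    show f ((y : Ω)⁻¹ * ((α : MulAut P) y : P)) = 1
    rw [hfmul _ (U.inv_mem hy) _ hay,
      show f ((α : MulAut P) y : P) = f y from hinv P _ ((mem_autGroup_iff hP).1 α.2) y,
      ← hfmul _ (U.inv_mem hy) _ hy, inv_mul_cancel, hf1]
  obtain ⟨x', hx', hxe⟩ := hker (hC.2.2.1.symm ▸ hx)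
  obtain rfl : (x' : Ω) = x := hxe
  have h5 : (x' : Ω)⁻¹ * (t * x' * t⁻¹) = 1 := hx'
  rw [inv_mul_eq_one] at h5
  exact (eq_mul_inv_iff_mul_eq.1 h5).symm

set_option maxHeartbeats 1000000 in
/-- Such a component centralizes `V`. -/
theorem centralizes_of_inf (hS : IsPGroup p S) (hD : D.IsNormalIn F p)
    (hV : F.StronglyClosed V) (hC : C.IsComponentIn D p)
    (hcen : ∀ P, C.Hom P ⊆ D.centralizerHom (T ⊓ V) P)
    (hcomm : ∀ (U' : Subgroup Ω) (C' : FusionSystem U'), C'.IsComponentIn D p →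
      U' = U ∨ ∀ a ∈ U, ∀ b ∈ U', a * b = b * a) (P : Subgroup Ω) :
    C.Hom P ⊆ F.centralizerHom V P := by
  obtain ⟨⟨hDs, hF, hDi⟩, -⟩ := id hD
  have hT : F.StronglyClosed T := hDi.2.1
  have hUT := component_le hC
  have hUS := hUT.trans hT.1
  have := finite_of_le (Ω := Ω) hUS
  have hUp : IsPGroup p U := hS.to_le hUS
  have hVS := hV.1
  have hUV : U ≤ centralizerIn S V := fun x hx => mem_centralizerIn.2
    ⟨hUS hx, fun v hv => commutes_of_inf hS hD hV hC hcen hcomm hv hx⟩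
  let G := centralizerSystem F V hVS
  have hR : F.StronglyClosed (T ⊓ V) := ⟨inf_le_left.trans hT.1, fun P hP φ hφ x =>
    ⟨hT.2 P (hP.trans inf_le_left) φ hφ x, hV.2 P (hP.trans inf_le_right) φ hφ x⟩⟩
  intro φ₀ hφ₀
  refine alperin_induction (C := fun P φ => φ ∈ G.Hom P) hUp hC.2.1
    (fun Q g hQ hg => G.conj_mem (hQ.trans hUV) (hUV hg))
    (fun _ _ _ _ _ _ h1 h2 h => G.comp_mem h1 h2 h)
    (fun _ _ _ _ h1 _ hi => inv_mem' h1 rfl fun x _ => hi x)
    (fun R₁ hn hR₁c _ α hα => ?_) hφ₀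
  have hR₁U := hR₁c.1
  have hR₁G : R₁ ≤ centralizerIn S V := hR₁U.trans hUV
  refine (mem_autGroup_iff hR₁G).1 ?_
  have := finite_autGroup (F := C) hR₁U
  obtain ⟨-, Y, hY⟩ := isFullyAutomized_of_fullyNormalized hUp hC.2.1 hn
  suffices htop : (G.autGroup R₁).subgroupOf (C.autGroup R₁) = ⊤ from
    Subgroup.mem_subgroupOf.1 (htop.ge (Subgroup.mem_top (⟨α, hα⟩ : C.autGroup R₁)))
  rw [eq_top_iff, ← Transfer.sylow_sup_pResidual_eq_top Y]
  refine sup_le (fun a ha => ?_) ((Subgroup.closure_le _).2 fun a ha => ?_)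
  · rw [hY] at ha
    obtain ⟨g, hg, hga⟩ := mem_autInducedBy_iff.1 (Subgroup.mem_subgroupOf.1 ha)
    exact autInducedBy_le_autGroup G hR₁G
      (mem_autInducedBy_iff.2 ⟨g, hUV hg, hga⟩)
  refine (mem_autGroup_iff hR₁G).2 ?_
  have hR₁S := hR₁U.trans hUS
  -- extend to `Q = R₁ (T ⊓ V)` in `D`
  obtain ⟨-, hR₁C, -, ψ, hψ, hψP, hψR⟩ := hcen R₁ ((mem_autGroup_iff hR₁U).1 a.2)
  let Q := R₁ ⊔ (T ⊓ V)
  have hQT : Q ≤ T := sup_le (hR₁U.trans hUT) inf_le_left
  have hQS : Q ≤ S := hQT.trans hT.1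
  have := finite_of_le (Ω := Ω) hQS
  have := finite_mulAut (Ω := Ω) hQS
  have := finite_of_le (Ω := Ω) hT.1
  have hψr : ψ.range = Q := range_eq_of_le hψ hQT (forall_sup_mem ψ
    (fun x => Subgroup.mem_sup_left (by rw [hψP]; exact ((a : MulAut R₁) x).2))
    fun r => Subgroup.mem_sup_right (by rw [hψR]; exact r.2)) le_rfl
  set A₀ : MulAut Q := toAut hψ hψr with hA₀
  have hA₀e : ∀ x : R₁, A₀ (Subgroup.inclusion le_sup_left x) =
      Subgroup.inclusion le_sup_left ((a : MulAut R₁) x) := fun x =>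
    Subtype.ext ((coe_toAut hψ hψr _).trans (hψP x))
  obtain ⟨n, hn', hnR⟩ := exists_coprime_ext_of_ext (S := S) (le_sup_left : R₁ ≤ Q) hQS
    (a := (a : MulAut R₁)) (by rw [Subgroup.orderOf_coe]; exact ha) hA₀e
  set A := A₀ ^ n with hA
  have hAD : A ∈ D.autGroup Q := pow_mem (toAut_mem hψ hψr) n
  have hAfix : ∀ r : Ω, ∀ hr : r ∈ T ⊓ V, A ⟨r, Subgroup.mem_sup_right hr⟩ =
      ⟨r, Subgroup.mem_sup_right hr⟩ := by
    intro r hr
    have h0 : A₀ ⟨r, Subgroup.mem_sup_right hr⟩ = ⟨r, Subgroup.mem_sup_right hr⟩ :=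
      Subtype.ext ((coe_toAut hψ hψr _).trans (hψR ⟨r, hr⟩))
    have hk : ∀ k : ℕ, (A₀ ^ k) ⟨r, Subgroup.mem_sup_right hr⟩ =
        ⟨r, Subgroup.mem_sup_right hr⟩ := by
      intro k
      induction k with
      | zero => rfl
      | succ k ih => rw [pow_succ, MulAut.mul_apply, h0, ih]
    exact hk n
  -- move
  obtain ⟨ω, hω, hQ'n, hX'n⟩ := Meet.exists_move hS hF hQS
  have hVQ : ∀ v ∈ V, v ∈ Subgroup.normalizer (Q : Set Ω) := fun v hv =>
    KNorm.normalizer_inf_normalizer_le_normalizer_sup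
      ⟨Subgroup.centralizer_le_normalizer _ (Subgroup.mem_centralizer_iff.2 fun x hx =>
        ((mem_centralizerIn.1 (hR₁G hx)).2 v hv).symm),
       le_normalizer_of_stronglyClosed hR (hVS hv)⟩
  have hVle : V ≤ normalizerIn S Q := fun v hv => ⟨hVS hv, hVQ v hv⟩
  have hQle : Q ≤ normalizerIn S Q := le_normalizerIn hQS
  have hωQ := restrict_mem hω hQle
  set Q' := (Q.subgroupOf (normalizerIn S Q)).map ω with hQ'
  have hωQr : (ω.comp (Subgroup.inclusion hQle)).range = Q' := by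
    rw [MonoidHom.range_comp, Subgroup.inclusion_range]
  set e := homEquiv hωQ hωQr with he
  have hωV := restrict_mem hω hVle
  have := finite_of_le (Ω := Ω) hVS
  have hωVr := range_eq_of_le hωV hVS (fun v => hV.2 V le_rfl _ hωV v) le_rfl
  have hQ'T : Q' ≤ T := by
    rw [← hωQr]; rintro _ ⟨x, rfl⟩; exact hT.2 Q hQT _ hωQ x
  have hRQ' : T ⊓ V ≤ Q' := by
    have hres := restrict_mem hω ((le_sup_right : T ⊓ V ≤ Q).trans hQle)
    have := finite_of_le (Ω := Ω) hR.1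
    have hr := range_eq_of_le hres hR.1 (fun w => hR.2 _ le_rfl _ hres w) le_rfl
    intro r hr'
    obtain ⟨r₀, rfl⟩ := hr.ge hr'
    exact ⟨_, Subgroup.mem_sup_right r₀.2, rfl⟩
  have hVN' : V ≤ Subgroup.normalizer (Q' : Set Ω) := by
    intro v hv
    obtain ⟨v₀, rfl⟩ := hωVr.ge hv
    have := finite_of_le (Ω := Ω) hQ'n.1
    refine mem_normalizer_of_forall fun z hz => ?_
    obtain ⟨q, hq, rfl⟩ := hz
    refine ⟨Subgroup.inclusion hVle v₀ * q * (Subgroup.inclusion hVle v₀)⁻¹,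
      (Subgroup.mem_normalizer_iff.1 (hVQ v₀ v₀.2) _).1 hq, ?_⟩
    rw [map_mul, map_mul, map_inv]
    rfl
  have hconjω : ∀ (v₀ : V) (hv : ω (Subgroup.inclusion hVle v₀) ∈ V) (x : Q),
      conjAut (hVN' hv) (e x) = e (conjAut (hVQ v₀ v₀.2) x) := fun v₀ hv x => Subtype.ext (by
    show ω (Subgroup.inclusion hVle v₀) * ω (Subgroup.inclusion hQle x) *
      (ω (Subgroup.inclusion hVle v₀))⁻¹ = _
    rw [← map_inv, ← map_mul, ← map_mul]
    exact congrArg ω (Subtype.ext rfl))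
  have hfix' : ∀ x : Q', (x : Ω) ∈ V → MulAut.congr e A x = x := by
    intro x hx
    obtain ⟨x₀, rfl⟩ := e.surjective x
    rw [he, congr_apply]
    obtain ⟨η, hη, -, hηi, -⟩ := exists_inverse hωQ hωQr
    have hx₀ : (x₀ : Ω) ∈ T ⊓ V := ⟨hQT x₀.2,
      Set.mem_of_eq_of_mem (hηi x₀ (e x₀).2).symm (apply_mem_closed hV hη (e x₀) hx)⟩
    exact congrArg _ (hAfix x₀ hx₀)
  have hcomm' : ∀ v (hv : v ∈ V),
      MulAut.congr e A * conjAut (hVN' hv) = conjAut (hVN' hv) * MulAut.congr e A := by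
    intro v hv
    obtain ⟨v₀, hv₀⟩ := hωVr.ge hv
    subst hv₀
    refine MulEquiv.ext fun y => ?_
    obtain ⟨x, rfl⟩ := e.surjective y
    rw [MulAut.mul_apply, MulAut.mul_apply]
    erw [hconjω v₀ hv x]
    rw [congr_apply, congr_apply]
    erw [hconjω v₀ hv (A x)]
    refine congrArg e ?_
    obtain ⟨r₁, hr₁, r₂, hr₂, hx⟩ : ∃ r₁ ∈ R₁, ∃ r₂ ∈ T ⊓ V, (x : Ω) = r₁ * r₂ := by
      let K : Subgroup Ω :=
        { carrier := {x | ∃ r₁ ∈ R₁, ∃ r₂ ∈ T ⊓ V, x = r₁ * r₂}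
          one_mem' := ⟨1, one_mem _, 1, one_mem _, (one_mul 1).symm⟩
          mul_mem' := by
            rintro _ _ ⟨a₁, ha₁, a₂, ha₂, rfl⟩ ⟨b₁, hb₁, b₂, hb₂, rfl⟩
            refine ⟨a₁ * b₁, mul_mem ha₁ hb₁, a₂ * b₂, mul_mem ha₂ hb₂, ?_⟩
            rw [mul_assoc a₁ a₂, ← mul_assoc a₂ b₁ b₂,
              base_centralizes hC hcen (hR₁U hb₁) ha₂]
            group
          inv_mem' := by
            rintro _ ⟨a₁, ha₁, a₂, ha₂, rfl⟩
            refine ⟨a₁⁻¹, inv_mem ha₁, a₂⁻¹, inv_mem ha₂, ?_⟩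
            rw [mul_inv_rev]
            exact base_centralizes hC hcen (hR₁U (inv_mem ha₁)) (inv_mem ha₂) }
      exact (sup_le (fun r hr => ⟨r, hr, 1, one_mem _, (mul_one r).symm⟩)
        (fun r hr => ⟨1, one_mem _, r, hr, (one_mul r).symm⟩) : R₁ ⊔ (T ⊓ V) ≤ K) x.2
    have hxe : x = Subgroup.inclusion le_sup_left (⟨r₁, hr₁⟩ : R₁) *
        ⟨r₂, Subgroup.mem_sup_right hr₂⟩ := Subtype.ext hx
    have hc₁ : ∀ (y : R₁), conjAut (hVQ v₀ v₀.2) (Subgroup.inclusion le_sup_left y) =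
        Subgroup.inclusion le_sup_left y := fun y => Subtype.ext (by
      show (v₀ : Ω) * y * (v₀ : Ω)⁻¹ = y
      rw [(mem_centralizerIn.1 (hR₁G y.2)).2 v₀ v₀.2, mul_inv_cancel_right])
    have hc₂ : ((conjAut (hVQ v₀ v₀.2) ⟨r₂, Subgroup.mem_sup_right hr₂⟩ : Q) : Ω) ∈ T ⊓ V :=
      (Subgroup.mem_normalizer_iff.1 (le_normalizer_of_stronglyClosed hR (hVS v₀.2)) _).1 hr₂
    rw [hxe, map_mul, map_mul, map_mul, map_mul, hnR, hc₁, hc₁, hnR, hAfix r₂ hr₂]
    exact congrArg _ (hAfix _ hc₂)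
  obtain ⟨β, hβ, hβQ, hβV⟩ := exists_fix_ext hS hD hV hQ'n hX'n hQ'T hRQ' hVN'
    (NormalExtensions.congr_mem_E hDi hQT hωQ hωQr hAD)
    (by rw [MulEquiv.orderOf_eq]; exact hn') hfix' hcomm'
  -- pull back
  have hM : Q ⊔ V ≤ normalizerIn S Q := sup_le hQle hVle
  have hωM := restrict_mem hω hM
  have hωMr : (ω.comp (Subgroup.inclusion hM)).range = Q' ⊔ V := by
    rw [MonoidHom.range_comp, Subgroup.inclusion_range, Subgroup.subgroupOf_sup hQle hVle,
      Subgroup.map_sup]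
    have h2 := hωVr
    rw [MonoidHom.range_comp, Subgroup.inclusion_range] at h2
    rw [h2]
  obtain ⟨η, hη, -, hηi, -⟩ := exists_inverse hωM hωMr
  have hm₁ : ∀ y : ↥(Q ⊔ V), ω (Subgroup.inclusion hM y) ∈ Q' ⊔ V := fun y => hωMr.le ⟨y, rfl⟩
  have hQ'V : Q' ⊔ V ≤ S := sup_le hQ'n.1 hVS
  have hm₂ : ∀ z : ↥(Q' ⊔ V), β z ∈ Q' ⊔ V := forall_sup_mem β
    (fun x => Subgroup.mem_sup_left (by rw [hβQ]; exact (MulAut.congr e A x).2))
    fun v => Subgroup.mem_sup_right (by rw [hβV]; exact v.2)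
  have hmap := F.comp_mem (F.comp_mem hωM hβ hm₁) hη fun y => hm₂ _
  refine ⟨(mem_autGroup_iff hR₁S).1 ?_, hR₁G, fun x => hR₁G ((a : MulAut R₁) x).2, _,
    restrict_mem hmap (sup_le_sup_right le_sup_left V), fun x => ?_, fun v => ?_⟩
  · exact autGroup_le_of_subsystem hDi.1 (hR₁U.trans hUT)
      (autGroup_le_of_subsystem (ComponentCore.isSubsystem_of_subnormal hC.1) hR₁U a.2)
  · show η ⟨β ⟨ω (Subgroup.inclusion hM ⟨x, _⟩), _⟩, _⟩ = _
    refine Eq.trans (congrArg η (Subtype.ext ?_))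
      (hηi (Subgroup.inclusion le_sup_left (Subgroup.inclusion le_sup_left
        ((a : MulAut R₁) x) : Q)) (hm₁ _))
    refine Eq.trans (congrArg β (Subtype.ext rfl : _ = Subgroup.inclusion le_sup_left
      (e (Subgroup.inclusion le_sup_left x)))) ((hβQ _).trans ?_)
    rw [congr_apply, hnR]
    rfl
  · show η ⟨β ⟨ω (Subgroup.inclusion hM ⟨v, _⟩), _⟩, _⟩ = _
    refine Eq.trans (congrArg η (Subtype.ext ?_))
      (hηi (Subgroup.inclusion le_sup_right v) (hm₁ _))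
    exact Eq.trans (congrArg β (Subtype.ext rfl : _ = Subgroup.inclusion le_sup_right
      (⟨ω (Subgroup.inclusion hVle v), hωVr.le ⟨v, rfl⟩⟩ : V))) (hβV _)

end Cfsg.Agent.Fusion.Components
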