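import Cfsg.Agent.Lib.Fusion.Components.Step
import Cfsg.Agent.Lib.Fusion.ResidualNormal
import Cfsg.Agent.Lib.Fusion.ConstrainedComponent
import Cfsg.Agent.S5148

/-!
A weakly normal subsystem of a quasisimple system is over a central subgroup or is the whole.
-/

set_option autoImplicit false
set_option linter.unusedSectionVars false

namespace Cfsg.Agent.Fusion.Components

open Cfsg Cfsg.FusionSystem Cfsg.Agent.Fusion

universe u

variable {Ω : Type u} [Group Ω] {S T : Subgroup Ω} {F : FusionSystem S} {D : FusionSystem T}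
  {p : ℕ} [Finite S] [Fact p.Prime]

theorem hom_eq_top {D : FusionSystem S} (hS : IsPGroup p S) (hD : D.IsWeaklyNormalIn F p)
    (hfull : ∀ (P : Subgroup Ω) (φ : P →* Ω), φ ∈ F.Hom P → F.center ≤ P →
      ∃ d ∈ D.Hom P, ∀ x : P, (φ x)⁻¹ * d x ∈ F.center) (P : Subgroup Ω) :
    D.Hom P = F.Hom P := by
  refine Set.Subset.antisymm (hD.2.2.1 P) fun φ hφ => ?_
  refine alperin_induction (C := fun P φ => φ ∈ D.Hom P) hS hD.2.1
    (fun Q g hQ hg => D.conj_mem hQ hg)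
    (fun _ _ _ _ _ _ h1 h2 h => D.comp_mem h1 h2 h)
    (fun _ _ _ _ h1 _ hi => inv_mem' h1 rfl fun x _ => hi x)
    (fun R _ hRc _ α hα => ?_) hφ
  have hRS := hRc.1
  have hZR : F.center ≤ R := fun z hz => isCentric_centralizerIn_le hRc (mem_centralizerIn.2
    ⟨(S5144.result F).1 hz, fun x hx => F.center_le_centralizer hz x (hRS hx)⟩)
  obtain ⟨d, hd, hde⟩ := hfull R _ ((mem_autGroup_iff hRS).1 hα) hZR
  have := finite_of_le (Ω := Ω) hRS
  have hdr : d.range = R := range_eq_of_le hd hRS (fun x => by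
    have h1 := R.mul_mem (α x).2 (hZR (hde x))
    rwa [show ((α x : R) : Ω) * ((R.subtype.comp α.toMonoidHom x)⁻¹ * d x) = d x from
      mul_inv_cancel_left _ _] at h1) le_rfl
  set δ : MulAut R := toAut hd hdr with hδ
  have hδD : δ ∈ D.autGroup R := toAut_mem hd hdr
  have hδF : δ ∈ F.autGroup R := autGroup_le_of_subsystem hD.2.2.1 hRS hδD
  have hfixδ : ∀ z : R, (z : Ω) ∈ F.center → δ z = z := fun z hz => Subtype.ext
    ((coe_toAut hd hdr z).trans ((congrArg d (Subtype.ext rfl)).trans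
      (S5148.center_fix F hZR (hD.2.2.1 R hd) z hz)))
  set β : MulAut R := δ⁻¹ * α with hβ
  have hmod : ∀ x : R, x⁻¹ * β x ∈ F.center.subgroupOf R := by
    intro x
    set z : R := ⟨_, hZR (hde x)⟩ with hz
    have h1 : δ x = α x * z := Subtype.ext
      ((coe_toAut hd hdr x).trans (mul_inv_cancel_left ((α x : R) : Ω) (d x)).symm)
    have h2 : β x = x * z⁻¹ := by
      rw [hβ, MulAut.mul_apply, show α x = δ x * z⁻¹ by rw [h1, mul_inv_cancel_right], map_mul,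
        MulAut.inv_apply_self]
      congr 1
      exact δ.injective (by
        rw [MulAut.apply_inv_self, hfixδ z⁻¹ (F.center.inv_mem (hde x))])
    rw [h2, inv_mul_cancel_left, Subgroup.mem_subgroupOf, Subgroup.coe_inv]
    exact F.center.inv_mem (hde x)
  have hfixα : ∀ z : R, (z : Ω) ∈ F.center → α z = z := fun z hz =>
    Subtype.ext ((congrArg (R.subtype.comp α.toMonoidHom) (Subtype.ext rfl)).trans
      (S5148.center_fix F hZR ((mem_autGroup_iff hRS).1 hα) z hz))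
  obtain ⟨l, hl⟩ := exists_pow_eq_one_of_mod (hS.to_le hRS) (b := β) _ hmod (k := 0)
    fun z hz => by
      rw [pow_zero, pow_one, hβ, MulAut.mul_apply, hfixα z hz]
      conv_lhs => rw [← hfixδ z hz, MulAut.inv_apply_self]
  have hβD := SameBase.pElement_mem hS (ConstrainedComponent.isWeaklyNormalIn_self hD.2.1) hD hRS
    (mul_mem (Subgroup.inv_mem _ hδF) hα) hl
  have h3 := mul_mem hδD hβD
  rw [mul_inv_cancel_left] at h3
  exact (mem_autGroup_iff hRS).1 h3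

/-- A weakly normal subsystem of a quasisimple system. -/
theorem normal_of_quasisimple (hS : IsPGroup p S) (hq : F.Quasisimple p)
    (hD : D.IsWeaklyNormalIn F p) :
    T ≤ F.center ∨ (T = S ∧ ∀ P, D.Hom P = F.Hom P) := by
  obtain ⟨hF, hhyp, hsimple⟩ := id hq
  have hT : F.StronglyClosed T := hD.2.2.2.1
  have hTS := hT.1
  have := finite_of_le (Ω := Ω) hTS
  have hTp : IsPGroup p T := hS.to_le hTS
  have hfac := S5148.centralQuotient_isFactor F
  have hsim := hsimple _ hfac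
  set θ := QuotientGroup.mk' (F.center.subgroupOf S) with hθ
  have hker : ∀ s : S, θ s = 1 ↔ (s : Ω) ∈ F.center := fun s => QuotientGroup.eq_one_iff s
  have hZ := Transport.stronglyClosed_center F
  set θT : T →* S ⧸ F.center.subgroupOf S := θ.comp (Subgroup.inclusion hTS) with hθT
  have hsc : D.StronglyClosed (F.center ⊓ T) := ⟨inf_le_right, fun R hR φ hφ x =>
    ⟨hZ.2 R (hR.trans inf_le_left) φ (hD.2.2.1 R hφ) x, apply_mem hφ x⟩⟩
  have hkerT : ∀ s : T, θT s = 1 ↔ (s : Ω) ∈ F.center ⊓ T := fun s =>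
    (hker _).trans ⟨fun h => ⟨h, s.2⟩, fun h => h.1⟩
  set T' := θT.range with hT'
  set D' := factorSystem D hsc θT hkerT (rfl : θT.range = T') with hD'
  have hTfac : D.IsFactorSystem (F.center ⊓ T) θT D' := factorSystem_spec D hsc θT hkerT rfl
  have htopp : IsPGroup p (⊤ : Subgroup (S ⧸ F.center.subgroupOf S)) :=
    (hS.to_quotient _).to_subgroup _
  have hsub : D'.IsSubsystemOf (S5148.centralQuotient F) := by
    intro P' φ' hφ'
    obtain ⟨hP', φ, hφ, hind⟩ := (hTfac.2.2.2 P' φ').1 hφ'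
    obtain ⟨φ'', hφ'', hind''⟩ := exists_induced hS hF hZ hfac (hD.2.2.1 _ hφ)
    have him : imageAlong θ (preimageAlong θT P') = P' := by
      ext y
      constructor
      · intro hy
        obtain ⟨x, hx, rfl⟩ := mem_imageAlong_iff.1 hy
        exact (mem_preimageAlong.1 hx).2
      · intro hy
        obtain ⟨s, rfl⟩ := hP' hy
        exact mem_imageAlong_iff.2
          ⟨Subgroup.inclusion hTS s, mem_preimageAlong.2 ⟨s.2, hy⟩, rfl⟩
    refine mem_congr hφ'' him.symm fun y hy => ?_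
    obtain ⟨s, rfl⟩ := hP' hy
    obtain ⟨_, _, _, h1⟩ := hind
    obtain ⟨_, _, _, h2⟩ := hind''
    have hs : (s : Ω) ∈ preimageAlong θT P' := mem_preimageAlong.2 ⟨s.2, hy⟩
    exact (h1 ⟨s, hs⟩).trans (h2 ⟨s, hs⟩).symm
  have hT'cl : (S5148.centralQuotient F).StronglyClosed T' := by
    refine ⟨le_top, fun Q' hQ' φ' hφ' y => ?_⟩
    obtain ⟨-, φ, hφ, hP, hφS, hm, hind⟩ := hφ'
    obtain ⟨t, ht⟩ := hQ' y.2
    have hx : (t : Ω) ∈ preimageAlong θ Q' :=
      mem_preimageAlong.2 ⟨hTS t.2, (ht ▸ y.2 : θT t ∈ Q')⟩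
    rw [show y = ⟨θ ⟨(t : Ω), hP hx⟩, hm ⟨t, hx⟩⟩ from Subtype.ext ht.symm]
    rw [hind ⟨t, hx⟩]
    exact ⟨⟨φ ⟨t, hx⟩, apply_mem_closed hT hφ _ t.2⟩, rfl⟩
  have hsinv : StronglyInvariant D' (S5148.centralQuotient F) := by
    intro P' Q' hPQ hQT φ' hφ' hφQ ψ' hψ'
    obtain ⟨hP', φ, hφ, hA, hφT, hmA, hindA⟩ := (hTfac.2.2.2 P' φ').1 hφ'
    obtain ⟨-, ψ, hψ, hB, hψS, hmB, hindB⟩ := hψ'
    set B := preimageAlong θT Q' with hBdef
    have hBU : B ≤ preimageAlong θ Q' := fun x hx => by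
      obtain ⟨hxT, hxQ⟩ := mem_preimageAlong.1 hx
      exact mem_preimageAlong.2 ⟨hTS hxT, hxQ⟩
    have hAB : preimageAlong θT P' ≤ B := fun x hx => by
      obtain ⟨hxT, hxP⟩ := mem_preimageAlong.1 hx
      exact mem_preimageAlong.2 ⟨hxT, hPQ hxP⟩
    have hφB : ∀ x, φ x ∈ B := fun x => mem_preimageAlong.2
      ⟨hφT x, (hindA x) ▸ hφQ ⟨_, hmA x⟩⟩
    obtain ⟨χ, hχ, hχe⟩ := stronglyInvariant_of_invariant hD.2.2 (preimageAlong θT P') B hAB
      (preimageAlong_le θT Q') φ hφ hφB _ (restrict_mem hψ hBU)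
    obtain ⟨χ', hχ', hindχ⟩ := exists_induced hTp hD.1 hsc hTfac hχ
    have hval : ∀ (x : preimageAlong θT P')
        (h : ψ (Subgroup.inclusion hBU (Subgroup.inclusion hAB x)) ∈ T),
        θT ⟨_, h⟩ = ψ' (Subgroup.inclusion hPQ ⟨_, hmA x⟩) := fun x h =>
      ((hindB (Subgroup.inclusion hBU (Subgroup.inclusion hAB x))).symm).trans
        (congrArg ψ' (Subtype.ext rfl))
    have hψT : ∀ x : B, ψ (Subgroup.inclusion hBU x) ∈ T := fun x =>
      hT.2 B (preimageAlong_le θT Q') _ (restrict_mem hψ hBU) x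
    have him : imageAlong θT (((preimageAlong θT P').subgroupOf B).map
        (ψ.comp (Subgroup.inclusion hBU))) = (P'.subgroupOf Q').map ψ' := by
      ext y
      constructor
      · intro hy
        obtain ⟨s, ⟨x, hx, hxs⟩, rfl⟩ := mem_imageAlong_iff.1 hy
        refine ⟨Subgroup.inclusion hPQ ⟨_, hmA ⟨x, hx⟩⟩, (hmA ⟨x, hx⟩ : _), ?_⟩
        exact (hval ⟨x, hx⟩ (hψT _)).symm.trans (congrArg θT (Subtype.ext hxs))
      · rintro ⟨q, hq, rfl⟩
        obtain ⟨s, hs⟩ := hP' hq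
        have hx : (s : Ω) ∈ preimageAlong θT P' := mem_preimageAlong.2 ⟨s.2, (hs ▸ hq : θT s ∈ P')⟩
        refine mem_imageAlong_iff.2 ⟨⟨_, hψT (Subgroup.inclusion hAB ⟨s, hx⟩)⟩,
          ⟨Subgroup.inclusion hAB ⟨s, hx⟩, hx, rfl⟩, ?_⟩
        exact (hval ⟨s, hx⟩ _).trans (congrArg ψ' (Subtype.ext hs))
    refine ⟨χ'.comp (Subgroup.inclusion him.ge), restrict_mem hχ' him.ge, fun x hx => ?_⟩
    obtain ⟨s, hs⟩ := hP' x.2
    have hxA : (s : Ω) ∈ preimageAlong θT P' := mem_preimageAlong.2 ⟨s.2, (hs ▸ x.2 : θT s ∈ P')⟩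
    obtain ⟨hPχ, hχT, hmχ, hindχ⟩ := hindχ
    have hz : ψ (Subgroup.inclusion hBU (Subgroup.inclusion hAB ⟨s, hxA⟩)) ∈
        ((preimageAlong θT P').subgroupOf B).map (ψ.comp (Subgroup.inclusion hBU)) :=
      ⟨Subgroup.inclusion hAB ⟨s, hxA⟩, hxA, rfl⟩
    have h1 := hindχ ⟨_, hz⟩
    refine (congrArg χ' (Subtype.ext ?_)).trans (h1.trans ?_)
    · exact (congrArg ψ' (Subtype.ext hs.symm)).trans (hval ⟨s, hxA⟩ (hψT _)).symm
    · have h2 := hχe ⟨s, hxA⟩ hz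
      refine (congrArg θT (Subtype.ext h2 : (⟨χ ⟨_, hz⟩, hχT _⟩ : T) =
        ⟨ψ (Subgroup.inclusion hBU ⟨φ ⟨s, hxA⟩, hφB _⟩), hψT _⟩)).trans ?_
      refine ((hindB (Subgroup.inclusion hBU ⟨φ ⟨s, hxA⟩, hφB _⟩)).symm).trans ?_
      exact congrArg ψ' (Subtype.ext ((hindA ⟨s, hxA⟩).symm.trans
        (congrArg φ' (Subtype.ext hs))))
  have hD'w : D'.IsWeaklyNormalIn (S5148.centralQuotient F) p :=
    ⟨isSaturated_factorSystem hTp hD.1 hsc hTfac, hsim.1,
      isInvariantIn_of_stronglyInvariant htopp hsim.1 hsub hT'cl hsinv⟩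
  have hres := ResidualNormal.isNormalIn_residual htopp hD'w
  rcases hsim.2.2 _ _ hres with h | ⟨htop, hHom⟩
  · refine Or.inl fun x hx => ?_
    exact ((hkerT ⟨x, hx⟩).1 (Subgroup.mem_bot.1 (h ▸ ⟨⟨x, hx⟩, rfl⟩))).1
  refine Or.inr ?_
  have hTeq : T = S := by
    refine le_antisymm hTS fun y hy => ?_
    rw [← hhyp] at hy
    refine (Subgroup.closure_le _).2 ?_ hy
    rintro _ ⟨P, α, x, hP, -, rfl⟩
    obtain ⟨ψ, hψ, hψP, hψZ⟩ :=
      (S5144.result F).2 P _ ((mem_autGroup_iff hP).1 α.2)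
    obtain ⟨t, ht⟩ := htop.ge (Subgroup.mem_top (θ ⟨x, hP x.2⟩))
    have hz : (t : Ω)⁻¹ * x ∈ F.center := (hker ((Subgroup.inclusion hTS t)⁻¹ * (⟨(x : Ω), hP x.2⟩ : S))).1
      (by rw [map_mul, map_inv, ← ht]; exact inv_mul_cancel _)
    set z := (t : Ω)⁻¹ * x with hzdef
    have htm : (t : Ω) ∈ P ⊔ F.center := by
      rw [show (t : Ω) = x * z⁻¹ by rw [hzdef]; group]
      exact Subgroup.mul_mem_sup x.2 (F.center.inv_mem hz)
    have hαx : (((α : MulAut P) x : P) : Ω) = ψ ⟨t, htm⟩ * z := by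
      refine (hψP x).symm.trans ?_
      rw [show Subgroup.inclusion le_sup_left x = (⟨t, htm⟩ : ↥(P ⊔ F.center)) *
        Subgroup.inclusion le_sup_right (⟨z, hz⟩ : F.center) from
        Subtype.ext (mul_inv_cancel_left (t : Ω) x).symm, map_mul, hψZ]
    show (x : Ω)⁻¹ * ((α : MulAut P) x : P) ∈ T
    have hc : ∀ w ∈ T, z⁻¹ * w * z = w := fun w hw => by
      have := F.center_le_centralizer hz w (hTS hw)
      rw [mul_assoc, this, inv_mul_cancel_left]
    rw [hαx, show (x : Ω) = t * z from (mul_inv_cancel_left _ _).symm,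
      show ((t : Ω) * z)⁻¹ * (ψ ⟨t, htm⟩ * z) = z⁻¹ * ((t : Ω)⁻¹ * ψ ⟨t, htm⟩) * z by group]
    have hw := T.mul_mem (T.inv_mem t.2) (apply_mem_closed hT hψ ⟨t, htm⟩ t.2)
    rw [hc _ hw]
    exact hw
  subst hTeq
  refine ⟨rfl, hom_eq_top hS hD fun P φ hφ hZP => ?_⟩
  obtain ⟨φ', hφ', hind⟩ := exists_induced hS hF hZ hfac hφ
  have h1 : φ' ∈ (PPrimeResidual.residual D' p).Hom _ := (hHom _).ge hφ'
  obtain ⟨-, d, hd, hPd, hdS, hm, hindd⟩ := (hTfac.2.2.2 _ φ').1 h1.1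
  obtain ⟨hP, hφS, hmφ, hind⟩ := hind
  have hle : P ≤ preimageAlong θT (imageAlong θ P) := fun x hx =>
    mem_preimageAlong.2 ⟨hP hx, mem_imageAlong_iff.2 ⟨⟨x, hP hx⟩, hx, rfl⟩⟩
  refine ⟨_, restrict_mem hd hle, fun x => ?_⟩
  refine (hker ((⟨φ x, hφS x⟩ : T)⁻¹ * ⟨d (Subgroup.inclusion hle x), hdS _⟩)).1 ?_
  rw [map_mul, map_inv, inv_mul_eq_one]
  exact (hind x).symm.trans (hindd (Subgroup.inclusion hle x))

end Cfsg.Agent.Fusion.Components
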