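import Cfsg.Agent.Lib.Fusion.Components.Centralize
import Cfsg.Agent.Lib.Fusion.Components.Quasisimple
import Cfsg.Agent.Lib.Fusion.Meet.Main

/-!
Components and normal subsystems: a component of `F` is a component of a given normal subsystem
or centralizes its base; distinct components centralize each other.
-/

set_option autoImplicit false
set_option linter.unusedSectionVars false

namespace Cfsg.Agent.Fusion.Components

open Cfsg Cfsg.FusionSystem Cfsg.Agent.Fusion

universe u

variable {Ω : Type u} [Group Ω] {S T U : Subgroup Ω} {F : FusionSystem S} {p : ℕ}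

/-- The graphs of the maps of a system. -/
def graphs (F : FusionSystem S) : Set (Set (Ω × Ω)) :=
  {G | ∃ (P : Subgroup Ω) (φ : P →* Ω), φ ∈ F.Hom P ∧
    G = Set.range fun x : P => ((x : Ω), φ x)}

/-- The number of maps of a system. -/
noncomputable def gsize (F : FusionSystem S) : ℕ := (graphs F).ncard

theorem graphs_finite [Finite S] (F : FusionSystem S) : (graphs F).Finite := by
  refine ((Set.toFinite (S : Set Ω)).prod (Set.toFinite (S : Set Ω))).finite_subsets.subset ?_
  rintro _ ⟨P, φ, hφ, rfl⟩ _ ⟨x, rfl⟩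
  exact ⟨dom_le hφ x.2, apply_mem hφ x⟩

theorem gsize_le [Finite S] {D : FusionSystem T} (h : D.IsSubsystemOf F) : gsize D ≤ gsize F :=
  Set.ncard_le_ncard (by rintro _ ⟨P, φ, hφ, rfl⟩; exact ⟨P, φ, h P hφ, rfl⟩) (graphs_finite F)

theorem sys_eq {D E : FusionSystem S} (h : ∀ P, D.Hom P = E.Hom P) : D = E := by
  cases D; cases E
  congr
  exact funext h

theorem eq_of_gsize_le [Finite S] {D : FusionSystem T} (h : D.IsSubsystemOf F)
    (hs : gsize F ≤ gsize D) : T = S ∧ ∀ P, D.Hom P = F.Hom P := by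
  have heq : graphs D = graphs F := Set.eq_of_subset_of_ncard_le
    (by rintro _ ⟨P, φ, hφ, rfl⟩; exact ⟨P, φ, h P hφ, rfl⟩) hs (graphs_finite F)
  have key : ∀ P, D.Hom P = F.Hom P := by
    refine fun P => Set.Subset.antisymm (h P) fun φ hφ => ?_
    obtain ⟨P', φ', hφ', he⟩ : (Set.range fun x : P => ((x : Ω), φ x)) ∈ graphs D :=
      heq ▸ ⟨P, φ, hφ, rfl⟩
    obtain rfl : P' = P := by
      ext z
      constructor
      · intro hz
        obtain ⟨x, hx⟩ := he.ge ⟨⟨z, hz⟩, rfl⟩
        exact Set.mem_of_eq_of_mem (congrArg Prod.fst hx).symm x.2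
      · intro hz
        obtain ⟨x, hx⟩ := he.le ⟨⟨z, hz⟩, rfl⟩
        exact Set.mem_of_eq_of_mem (congrArg Prod.fst hx).symm x.2
    obtain rfl : φ' = φ := MonoidHom.ext fun x => by
      obtain ⟨y, hy⟩ := he.le ⟨x, rfl⟩
      obtain rfl : y = x := Subtype.ext (congrArg Prod.fst hy)
      exact congrArg Prod.snd hy
    exact hφ'
  refine ⟨le_antisymm (ComponentCore.le_of_subsystem h) ?_, key⟩
  exact dom_le ((key S).ge (subtype_mem F le_rfl))

/-- A component is the whole system or is a component of a smaller normal subsystem. -/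
theorem subnormal_cases {C : FusionSystem U} (h : C.IsSubnormalIn F p) : Finite S →
    (U = S ∧ ∀ P, C.Hom P = F.Hom P) ∨
      ∃ (T : Subgroup Ω) (D : FusionSystem T), D.IsNormalIn F p ∧ gsize D < gsize F ∧
        C.IsSubnormalIn D p := by
  induction h with
  | refl F p => exact fun _ => Or.inl ⟨rfl, fun P => rfl⟩
  | step hED hDF ih =>
    rename_i T' S' E D F p
    intro hfin
    by_cases hlt : gsize D < gsize F
    · exact Or.inr ⟨_, D, hDF, hlt, hED⟩
    obtain ⟨hTS, hhom⟩ := eq_of_gsize_le hDF.1.2.2.1 (not_lt.1 hlt)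
    subst hTS
    obtain rfl := sys_eq hhom
    exact ih hfin

theorem centralizerHom_sub {D : FusionSystem T} (h : D.IsSubsystemOf F) {V P : Subgroup Ω} :
    D.centralizerHom V P ⊆ F.centralizerHom V P := by
  rintro φ ⟨hφ, hP, hφC, ψ, hψ, hψP, hψV⟩
  have hC : centralizerIn T V ≤ centralizerIn S V :=
    inf_le_inf_right _ (ComponentCore.le_of_subsystem h)
  exact ⟨h P hφ, hP.trans hC, fun x => hC (hφC x), ψ, h _ hψ, hψP, hψV⟩

/-- The dichotomy. -/
def Dich (F : FusionSystem S) (p : ℕ) : Prop :=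
  ∀ (U : Subgroup Ω) (C : FusionSystem U), C.IsComponentIn F p →
    ∀ (T : Subgroup Ω) (D : FusionSystem T), D.IsNormalIn F p →
      C.IsComponentIn D p ∨ ∀ P, C.Hom P ⊆ F.centralizerHom T P

/-- Distinct components centralize each other. -/
def Comm (F : FusionSystem S) (p : ℕ) : Prop :=
  ∀ (U : Subgroup Ω) (C : FusionSystem U), C.IsComponentIn F p →
    ∀ (U' : Subgroup Ω) (C' : FusionSystem U'), C'.IsComponentIn F p →
      (U' = U ∧ ∀ P, C'.Hom P = C.Hom P) ∨ ∀ P, C.Hom P ⊆ F.centralizerHom U' P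

theorem bases_commute {C : FusionSystem U} {U' : Subgroup Ω}
    (h : ∀ P, C.Hom P ⊆ F.centralizerHom U' P) {a b : Ω} (ha : a ∈ U) (hb : b ∈ U') :
    a * b = b * a := by
  obtain ⟨-, hU, -⟩ := h U (subtype_mem C le_rfl)
  exact ((mem_centralizerIn.1 (hU ha)).2 b hb).symm

theorem dich_and_comm [Fact p.Prime] : ∀ (n : ℕ) {S : Subgroup Ω} [Finite S] (F : FusionSystem S),
    gsize F ≤ n → IsPGroup p S → F.IsSaturated p → Dich F p ∧ Comm F p := by
  intro n
  induction n using Nat.strong_induction_on with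
  | _ n IH =>
  intro S _ F hn hS hF
  have hsmall : ∀ {T : Subgroup Ω} (D : FusionSystem T), D.IsNormalIn F p → gsize D < gsize F →
      Dich D p ∧ Comm D p := by
    intro T D hD hlt
    have hTS := hD.1.2.2.2.1.1
    have := finite_of_le (Ω := Ω) hTS
    exact IH (gsize D) (by omega) D le_rfl (hS.to_le hTS) hD.1.1
  have hdich : Dich F p := by
    intro U C hC T D hD
    rcases subnormal_cases hC.1 ‹_› with ⟨hUS, hhom⟩ | ⟨T₀, D₀, hD₀, hlt, hCD₀⟩
    · subst hUS
      obtain rfl := sys_eq hhom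
      rcases normal_of_quasisimple hS hC.2 hD.1 with hTZ | ⟨hTU, hDhom⟩
      · refine Or.inr fun P φ hφ => ?_
        have hUC : ∀ x ∈ U, x ∈ centralizerIn U T := fun x hx => mem_centralizerIn.2 ⟨hx,
          fun t ht => (C.center_le_centralizer (hTZ ht) x hx).symm⟩
        obtain ⟨ψ, hψ, hψP, hψZ⟩ := (S5144.result C).2 P φ hφ
        refine ⟨hφ, fun x hx => hUC x (dom_le hφ hx), fun x => hUC _ (apply_mem hφ x), _,
          restrict_mem hψ (sup_le_sup_left hTZ P), fun x => hψP x, fun t => ?_⟩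
        exact hψZ (Subgroup.inclusion hTZ t)
      · subst hTU
        obtain rfl := sys_eq hDhom
        exact Or.inl hC
    · obtain ⟨hd, hc⟩ := hsmall D₀ hD₀ hlt
      have c : Meet.Ctx F D₀ D p := ⟨hS, hF, hD₀, hD⟩
      rcases hd U C ⟨hCD₀, hC.2⟩ _ _ (Meet.isNormalIn_meetNormal_left c) with h | h
      · exact Or.inl ⟨.step h.1 (Meet.isNormalIn_meetNormal_right c), h.2⟩
      · refine Or.inr (centralizes_of_inf hS hD₀ hD.1.2.2.2.1 ⟨hCD₀, hC.2⟩ h fun U' C' hC' => ?_)
        rcases hc U C ⟨hCD₀, hC.2⟩ U' C' hC' with ⟨he, -⟩ | h'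
        · exact Or.inl he
        · exact Or.inr fun a ha b hb => bases_commute h' ha hb
  refine ⟨hdich, fun U C hC U' C' hC' => ?_⟩
  rcases subnormal_cases hC'.1 ‹_› with ⟨hUS, hhom⟩ | ⟨T₀, D₀, hD₀, hlt, hCD₀⟩
  · subst hUS
    obtain rfl := sys_eq hhom
    rcases subnormal_cases hC.1 ‹_› with ⟨hUS, hhom⟩ | ⟨T₀, D₀, hD₀, hlt, hCD₀⟩
    · exact Or.inl ⟨hUS.symm, fun P => (hhom P).symm⟩
    have := finite_of_le (Ω := Ω) hD₀.1.2.2.2.1.1
    rcases hdich _ C' hC' _ D₀ hD₀ with h | h
    · exact absurd (gsize_le (ComponentCore.isSubsystem_of_subnormal h.1)) (not_le.2 hlt)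
    · have hUT : U ≤ T₀ := component_le ⟨hCD₀, hC.2⟩
      have hUS : U ≤ U' := hUT.trans hD₀.1.2.2.2.1.1
      have := finite_of_le (Ω := Ω) hUS
      refine absurd ⟨⟨fun x y => Subtype.ext ?_⟩⟩ (S5148.result p (hS.to_le hUS) C hC.2)
      exact bases_commute h (hUS x.2) (hUT y.2)
  · rcases hdich U C hC _ D₀ hD₀ with h | h
    · rcases (hsmall D₀ hD₀ hlt).2 U C h U' C' ⟨hCD₀, hC'.2⟩ with h' | h'
      · exact Or.inl h'
      · exact Or.inr fun P => (h' P).trans (centralizerHom_sub hD₀.1.2.2.1)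
    · exact Or.inr fun P φ hφ => NormalCentralizer.centralizerHom_mono
        (component_le ⟨hCD₀, hC'.2⟩) hD₀.1.2.2.2.1.1 (h P hφ)

variable [Finite S] [Fact p.Prime]

/-- **A component lies in a normal subsystem or centralizes it.** -/
theorem dich (hS : IsPGroup p S) (hF : F.IsSaturated p) : Dich F p :=
  (dich_and_comm _ F le_rfl hS hF).1

/-- **Distinct components centralize each other.** -/
theorem comm (hS : IsPGroup p S) (hF : F.IsSaturated p) : Comm F p :=
  (dich_and_comm _ F le_rfl hS hF).2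

/-- A component whose base lies in that of a normal subsystem is a component of it. -/
theorem component_of_le (hS : IsPGroup p S) (hF : F.IsSaturated p) {C : FusionSystem U}
    (hC : C.IsComponentIn F p) {D : FusionSystem T} (hD : D.IsNormalIn F p) (hUT : U ≤ T) :
    C.IsComponentIn D p := by
  refine (dich hS hF U C hC T D hD).resolve_right fun h => ?_
  have hUS : U ≤ S := Transport.subnormal_le hC.1
  have := finite_of_le (Ω := Ω) hUS
  exact S5148.result p (hS.to_le hUS) C hC.2
    ⟨⟨fun x y => Subtype.ext (bases_commute h x.2 (hUT y.2))⟩⟩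

end Cfsg.Agent.Fusion.Components
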