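import Cfsg.Agent.Lib.Fusion.Components.Layer
import Cfsg.Prelude.Def_FusionFitting
import Cfsg.Agent.S5150

/-!
The generalized Fitting subsystem exists, is determined, is normal, and has every component as a
normal subsystem.
-/

set_option autoImplicit false
set_option linter.unusedSectionVars false

namespace Cfsg.Agent.Fusion.Components

open Cfsg Cfsg.FusionSystem Cfsg.Agent.Fusion

universe u

variable {Ω : Type u} [Group Ω] {S T U : Subgroup Ω} {F : FusionSystem S} {p : ℕ}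

/-- A central product is determined by its factors. -/
theorem centralProduct_unique {T₁ T₂ U' : Subgroup Ω} {E₁ : FusionSystem T₁}
    {E₂ : FusionSystem T₂} {D : FusionSystem U} {D' : FusionSystem U'}
    (h : IsCentralProductOf E₁ E₂ D) (h' : IsCentralProductOf E₁ E₂ D') :
    U = U' ∧ ∀ P, D.Hom P = D'.Hom P := by
  obtain ⟨D₀, hD₀, Z, θ, -, -, -, hl, hr, hfac⟩ := h
  obtain ⟨D₀', hD₀', Z', θ', -, -, -, hl', hr', hfac'⟩ := h'
  obtain rfl : D₀ = D₀' := sys_eq fun P => Set.ext fun φ => (hD₀ P φ).trans (hD₀' P φ).symm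
  obtain rfl : θ = θ' := MonoidHom.ext fun ⟨⟨a, b⟩, ha, hb⟩ => by
    have h1 : (⟨(a, b), ha, hb⟩ : ↥(T₁.prod T₂)) =
        ⟨(a, 1), ha, one_mem _⟩ * ⟨(1, b), one_mem _, hb⟩ :=
      Subtype.ext (Prod.ext (mul_one a).symm (one_mul b).symm)
    rw [h1, map_mul, map_mul]
    exact congrArg₂ (· * ·) ((hl a _).trans (hl' a _).symm) ((hr b _).trans (hr' b _).symm)
  have hU : U = U' := hfac.2.2.1.symm.trans hfac'.2.2.1
  subst hU
  exact ⟨rfl, fun P => Set.ext fun φ => (hfac.2.2.2 P φ).trans (hfac'.2.2.2 P φ).symm⟩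

variable [Finite S] [Fact p.Prime]

/-- A component normal in a part `L` on whose base all maps are maps of `L` is normal. -/
theorem component_normal_of_local (hS : IsPGroup p S) (hF : F.IsSaturated p) {L : FusionSystem T}
    (hTS : T ≤ S) (hsub : L.IsSubsystemOf F)
    (hloc : ∀ Q : Subgroup Ω, Q ≤ T → F.Hom Q ⊆ L.Hom Q)
    {C : FusionSystem U} (hC : C.Quasisimple p) (hn : C.IsNormalIn L p) : C.IsNormalIn F p := by
  have := finite_of_le (Ω := Ω) hTS
  have hUT : U ≤ T := normal_le hn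
  have hUS := hUT.trans hTS
  have := finite_of_le (Ω := Ω) hUS
  have hclosed : F.StronglyClosed U := ⟨hUS, fun P hP φ hφ x =>
    hn.1.2.2.2.1.2 P hP φ (hloc P (hP.trans hUT) hφ) x⟩
  have hsinv : StronglyInvariant C F := fun P Q hPQ hQ φ hφ hφQ ψ hψ =>
    stronglyInvariant_of_invariant hn.1.2.2 P Q hPQ hQ φ hφ hφQ ψ (hloc Q (hQ.trans hUT) hψ)
  have hw : C.IsWeaklyNormalIn F p := ⟨hC.1, hF, isInvariantIn_of_stronglyInvariant hS hF
    (fun P φ hφ => hsub P (hn.1.2.2.1 P hφ)) hclosed hsinv⟩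
  have h := ResidualNormal.isNormalIn_residual hS hw
  rwa [residual_eq_of_component (hS.to_le hUS) hC
    (PPrimeResidual.isNormalIn_residual (hS.to_le hUS) hC.1).1] at h

/-- In a central product, the maps on the base of the second factor are maps of it. -/
theorem Pair.hom_of_le_right {T₁ T₂ : Subgroup Ω} {E₁ : FusionSystem T₁} {E₂ : FusionSystem T₂}
    (h : CentralProductSystem.Pair F E₁ E₂ p) {Q : Subgroup Ω} (hQ : Q ≤ T₂) :
    h.sys.Hom Q ⊆ E₂.Hom Q := by
  intro φ hφ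
  obtain ⟨φ₁, hφ₁, φ₂, hφ₂, hv⟩ := h.exists_split hφ
  have hproj : ∀ x ∈ Q, x ∈ CentralProductSystem.proj T₂ T₁ Q := fun x hx =>
    h.mem_proj₂ (one_mem _) (hQ hx) (by rwa [one_mul])
  refine mem_of_le hφ₂ hproj fun x => ?_
  have h1 : (1 : Ω) ∈ CentralProductSystem.proj T₁ T₂ Q := one_mem _
  rw [hv x 1 x h1 (hproj x x.2) (one_mul _),
    show (⟨1, h1⟩ : ↥(CentralProductSystem.proj T₁ T₂ Q)) = 1 from Subtype.ext rfl, map_one, one_mul]
  rfl

/-- The second factor lies in the central product. -/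
theorem Pair.right_le_sys {T₁ T₂ : Subgroup Ω} {E₁ : FusionSystem T₁} {E₂ : FusionSystem T₂}
    (h : CentralProductSystem.Pair F E₁ E₂ p) : E₂.IsSubsystemOf h.sys := by
  intro P φ hφ
  have hP : P ≤ T₁ ⊔ T₂ := (dom_le hφ).trans le_sup_right
  have hT₂S := normal_le h.normal₂
  have := finite_of_le (Ω := Ω) hT₂S
  obtain ⟨ψ₀, hψ₀, hψP, hψZ⟩ := (S5144.result E₂).2 P φ hφ
  have hle : P ⊔ (T₁ ⊓ T₂) ≤ P ⊔ E₂.center := sup_le_sup_left h.le_center₂ P
  refine h.mem_sys hP (subtype_mem E₁ (inf_le_left : T₁ ⊓ T₂ ≤ T₁)) (restrict_mem hψ₀ hle)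
    fun x a b ha hb hab => ?_
  have haT : a ∈ T₂ := by
    have h1 := T₂.mul_mem (dom_le hφ x.2) (T₂.inv_mem hb)
    rwa [← hab, mul_inv_cancel_right] at h1
  have hbm : b ∈ P ⊔ (T₁ ⊓ T₂) := by
    rw [show b = a⁻¹ * (x : Ω) by rw [← hab, inv_mul_cancel_left]]
    exact Subgroup.mul_mem _ (Subgroup.mem_sup_right ((T₁ ⊓ T₂).inv_mem ⟨ha, haT⟩))
      (Subgroup.mem_sup_left x.2)
  refine ⟨⟨ha, haT⟩, hbm, ?_⟩
  have h2 : Subgroup.inclusion le_sup_left x =
      Subgroup.inclusion le_sup_right (⟨a, h.le_center₂ ⟨ha, haT⟩⟩ : E₂.center) *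
        (⟨b, hle hbm⟩ : ↥(P ⊔ E₂.center)) := Subtype.ext hab.symm
  rw [← hψP x, h2, map_mul, hψZ]
  rfl

/-- The core and a layer form a pair. -/
theorem fitting_pair (hS : IsPGroup p S) (hF : F.IsSaturated p) {E : FusionSystem T}
    (hE : E.IsLayerOf F p) :
    CentralProductSystem.Pair F (innerFusionSystem F.core) E p := by
  have hEn := hE.1
  have hTS := normal_le hEn
  have := finite_of_le (Ω := Ω) hTS
  have hRn := isNormal_core F
  have := finite_of_le (Ω := Ω) hRn.1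
  have hER := S5150.result p hS F hF E hE
  have hcomm : ∀ a ∈ F.core, ∀ b ∈ T, a * b = b * a := fun a ha b hb => by
    obtain ⟨-, hT, -⟩ := hER T (subtype_mem E le_rfl)
    exact (mem_centralizerIn.1 (hT hb)).2 a ha
  refine ⟨hS, ComponentCore.inner_isNormal hS hF hRn, hEn, hcomm, ?_, ?_⟩
  · refine le_center_of_fixed (hS.to_le hRn.1) (innerFusionSystem_saturated (hS.to_le hRn.1))
      inf_le_left (fun z hz r hr => (hcomm r hr z hz.2).symm) fun P φ hφ x hx => ?_
    obtain ⟨-, g, hg, he⟩ := hφ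
    rw [he, hcomm g hg x hx.2, mul_inv_cancel_right]
  · exact le_center_of_fixed (hS.to_le hTS) hEn.1.1 inf_le_right
      (fun z hz t ht => hcomm z hz.1 t ht)
      fun P φ hφ x hx => fixes_of_centralizes hER hφ x hx.1

theorem exists_generalizedFitting (hS : IsPGroup p S) (hF : F.IsSaturated p) :
    ∃ (U : Subgroup Ω) (D : FusionSystem U), D.IsGeneralizedFittingOf F p := by
  obtain ⟨T, E, hE⟩ := exists_layer hS hF
  exact ⟨_, (fitting_pair hS hF hE).sys, T, E, hE, (fitting_pair hS hF hE).isCentralProductOf⟩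

theorem fitting_isNormalIn (hS : IsPGroup p S) (hF : F.IsSaturated p) {D : FusionSystem U}
    (hD : D.IsGeneralizedFittingOf F p) : D.IsNormalIn F p := by
  obtain ⟨T, E, hE, hc⟩ := hD
  obtain ⟨hU, hhom⟩ := centralProduct_unique hc (fitting_pair hS hF hE).isCentralProductOf
  subst hU
  obtain rfl := sys_eq hhom
  exact (fitting_pair hS hF hE).isNormalIn

theorem component_normal_fitting (hS : IsPGroup p S) (hF : F.IsSaturated p)
    {C : FusionSystem T} (hC : C.IsComponentIn F p) {D : FusionSystem U}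
    (hD : D.IsGeneralizedFittingOf F p) : C.IsNormalIn D p := by
  obtain ⟨V, E, hE, hc⟩ := hD
  set h := fitting_pair hS hF hE with hh
  obtain ⟨hU, hhom⟩ := centralProduct_unique hc h.isCentralProductOf
  subst hU
  obtain rfl := sys_eq hhom
  have hUS : F.core ⊔ V ≤ S := sup_le (isNormal_core F).1 (normal_le hE.1)
  have := finite_of_le (Ω := Ω) hUS
  exact component_normal_of_local (hS.to_le hUS) h.isSaturated le_sup_right (Pair.right_le_sys h)
    (fun Q hQ => Pair.hom_of_le_right h hQ) hC.2 (component_normal_layer hS hF hE hC)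

end Cfsg.Agent.Fusion.Components
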