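import Cfsg.Agent.Lib.Fusion.Components.Dichotomy
import Cfsg.Agent.Lib.Fusion.CentralProductSystem
import Cfsg.Agent.S5155

/-!
The layer: it exists, is its own layer, and each component is normal in it.
-/

set_option autoImplicit false
set_option linter.unusedSectionVars false

namespace Cfsg.Agent.Fusion.Components

open Cfsg Cfsg.FusionSystem Cfsg.Agent.Fusion

universe u

variable {Ω : Type u} [Group Ω] {S T U : Subgroup Ω} {F : FusionSystem S} {p : ℕ}

/-- No smaller normal subsystem contains all components. -/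
def IsGenerated (F : FusionSystem S) (p : ℕ) : Prop :=
  ∀ (T : Subgroup Ω) (D : FusionSystem T), D.IsNormalIn F p →
    (∀ (U : Subgroup Ω) (C : FusionSystem U), C.IsComponentIn F p → C.IsSubsystemOf D) →
      F.IsSubsystemOf D

variable [Finite S] [Fact p.Prime]

theorem isNormalIn_self (hF : F.IsSaturated p) : F.IsNormalIn F p := by
  refine ⟨ConstrainedComponent.isWeaklyNormalIn_self hF, fun α hα => ?_⟩
  have hSS : S ⊔ centralizerIn S S ≤ S := sup_le le_rfl (centralizerIn_le S S)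
  have hm := (mem_autGroup_iff le_rfl).1 hα
  have hφ := restrict_mem hm hSS
  have := finite_of_le (Ω := Ω) hSS
  have hr := range_eq_of_le hφ hSS (fun x => Subgroup.mem_sup_left (apply_mem hφ x)) le_rfl
  refine ⟨toAut hφ hr, toAut_mem hφ hr, fun x => rfl, fun c hc => ⟨?_, ?_⟩⟩
  · exact S.mul_mem (S.inv_mem hc.1) (apply_mem hφ c)
  · refine mul_mem (Subgroup.inv_mem _ hc.2) (Subgroup.mem_centralizer_iff.2 fun y hy => ?_)
    obtain ⟨z, hz⟩ := α.surjective ⟨y, hy⟩
    have h1 : z * ⟨c, hc.1⟩ = ⟨c, hc.1⟩ * z :=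
      Subtype.ext (Subgroup.mem_centralizer_iff.1 hc.2 z z.2)
    have h2 := congrArg Subtype.val (congrArg α h1)
    rw [map_mul, map_mul, hz] at h2
    exact h2

theorem normal_le {D : FusionSystem T} (hD : D.IsNormalIn F p) : T ≤ S := hD.1.2.2.2.1.1

/-- **The layer exists.** -/
theorem exists_layer (hS : IsPGroup p S) (hF : F.IsSaturated p) :
    ∃ (T : Subgroup Ω) (E : FusionSystem T), E.IsLayerOf F p := by
  classical
  let Cand : ℕ → Prop := fun n => ∃ (T : Subgroup Ω) (E : FusionSystem T), E.IsNormalIn F p ∧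
    (∀ (U : Subgroup Ω) (C : FusionSystem U), C.IsComponentIn F p → C.IsSubsystemOf E) ∧
      gsize E = n
  have hex : ∃ n, Cand n := ⟨gsize F, S, F, isNormalIn_self hF,
    fun U C hC => ComponentCore.isSubsystem_of_subnormal hC.1, rfl⟩
  obtain ⟨T, E, hE, hEC, hsize⟩ := Nat.find_spec hex
  refine ⟨T, E, hE, hEC, fun T' D hD hDC => ?_⟩
  have c : Meet.Ctx F E D p := ⟨hS, hF, hE, hD⟩
  have hN := Meet.isNormalIn_meetNormal c
  have hNE := Meet.isNormalIn_meetNormal_left c
  have := finite_of_le (Ω := Ω) (normal_le hE)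
  have hNC : ∀ (U : Subgroup Ω) (C : FusionSystem U), C.IsComponentIn F p →
      C.IsSubsystemOf (Meet.meetNormal c) := fun U C hC =>
    ComponentCore.isSubsystem_of_subnormal (component_of_le (hS.to_le (normal_le hE)) hE.1.1
      (component_of_le hS hF hC hE (ComponentCore.le_of_subsystem (hEC U C hC))) hNE
      (le_inf (ComponentCore.le_of_subsystem (hEC U C hC))
        (ComponentCore.le_of_subsystem (hDC U C hC)))).1
  have hle : gsize E ≤ gsize (Meet.meetNormal c) :=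
    hsize ▸ Nat.find_min' hex ⟨_, _, hN, hNC, rfl⟩
  obtain ⟨-, hhom⟩ := eq_of_gsize_le hNE.1.2.2.1 hle
  intro P φ hφ
  exact (Meet.isNormalIn_meetNormal_right c).1.2.2.1 P ((hhom P).ge hφ)

/-- Transport of the layer by the automorphisms of the base of a normal subsystem. -/
theorem layer_transport (hS : IsPGroup p S) {D : FusionSystem T} (hD : D.IsNormalIn F p)
    {L : FusionSystem U} (hL : L.IsLayerOf D p) {a : MulAut T} (ha : a ∈ F.autGroup T)
    {P : Subgroup Ω} (hP : P ≤ T) {φ : P →* Ω} (hφ : φ ∈ L.Hom P) :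
    ∃ χ ∈ L.Hom (imageAlong (T.subtype.comp a.toMonoidHom) P),
      ∀ (x : P) (hx : φ x ∈ T)
        (h : ((a ⟨x, hP x.2⟩ : T) : Ω) ∈ imageAlong (T.subtype.comp a.toMonoidHom) P),
        χ ⟨_, h⟩ = ((a ⟨φ x, hx⟩ : T) : Ω) := by
  have hTS := normal_le hD
  have := finite_of_le (Ω := Ω) hTS
  have hUT : U ≤ T := normal_le hL.1
  have hi : ∀ b ∈ F.autGroup T, IsIsoAlong D D (T.subtype.comp b.toMonoidHom) := fun b hb =>
    Transport.isIsoAlong_of_aut D (F.autGroup T)
      (fun Q hQ ψ hψ b' hb' => hD.1.2.2.2.2.1 Q hQ ψ hψ b' hb') b hb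
  set b := a⁻¹ with hbdef
  have hb : b ∈ F.autGroup T := Subgroup.inv_mem _ ha
  obtain ⟨E, hE⟩ := Transport.exists_image (hi b hb) L hUT
  have hEn : E.IsNormalIn D p := Transport.isNormalIn_fwd (hi b hb) hUT hE hL.1
  have hEC : ∀ (V : Subgroup Ω) (C : FusionSystem V), C.IsComponentIn D p →
      C.IsSubsystemOf E := by
    intro V C hC
    have hVT : V ≤ T := component_le hC
    obtain ⟨C', hC'⟩ := Transport.exists_image (hi a ha) C hVT
    have := finite_of_le (Ω := Ω) hVT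
    have hC'D : C'.IsComponentIn D p :=
      ⟨Transport.isSubnormalIn_fwd hC.1 (hi a ha) hVT hC', Transport.quasisimple_fwd hC' hC.2⟩
    intro Q ψ hψ
    have hQ := dom_le hψ
    set Q' := imageAlong ((T.subtype.comp a.toMonoidHom).comp (Subgroup.inclusion hVT)) Q with hQ'
    obtain ⟨ψ', hψ', hQV, hψV, hm, hv⟩ := Transport.hom_fwd hC' (rfl : _ = Q') hψ
    have hψL := hL.2.1 _ C' hC'D Q' hψ'
    obtain ⟨ψ'', hψ'', hQU, hψU, hm', hv'⟩ :=
      Transport.hom_fwd hE (rfl : _ = imageAlong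
        ((T.subtype.comp b.toMonoidHom).comp (Subgroup.inclusion hUT)) Q') hψL
    have hback : ∀ x : Q, (x : Ω) ∈ imageAlong
        ((T.subtype.comp b.toMonoidHom).comp (Subgroup.inclusion hUT)) Q' ∧
        ∀ h, ψ'' ⟨x, h⟩ = ψ x := by
      intro x
      have h0 : (x : Ω) = ((T.subtype.comp b.toMonoidHom).comp (Subgroup.inclusion hUT))
          ⟨_, hQU (hm x)⟩ :=
        (congrArg Subtype.val (MulAut.inv_apply_self T a ⟨x, hVT (hQV x.2)⟩)).symm
      refine ⟨h0 ▸ hm' ⟨_, hm x⟩, fun h => ?_⟩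
      rw [show (⟨(x : Ω), h⟩ : ↥(imageAlong _ Q')) = ⟨_, hm' ⟨_, hm x⟩⟩ from Subtype.ext h0,
        hv' ⟨_, hm x⟩]
      refine Eq.trans ?_ (congrArg Subtype.val
        (MulAut.inv_apply_self T a ⟨ψ x, hVT (hψV x)⟩))
      exact congrArg (fun t : T => ((b t : T) : Ω)) (Subtype.ext (hv x))
    refine mem_of_le hψ'' (fun x hx => (hback ⟨x, hx⟩).1) fun x => ?_
    exact ((hback x).2 _).symm
  have hLE : L.IsSubsystemOf E := hL.2.2 _ E hEn hEC
  have hφE := hLE P hφ
  obtain ⟨P₀, hP₀, hP₀e⟩ := hE.exists_preimage (dom_le hφE)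
  obtain ⟨ψ, hψ, hP₀U, hψU, hm, hv⟩ := Transport.hom_bwd hE hP₀ hP₀e hφE
  have him : imageAlong (T.subtype.comp a.toMonoidHom) P = P₀ := by
    ext y
    constructor
    · intro hy
      obtain ⟨x, rfl⟩ := (mem_imageAlong hP).1 hy
      obtain ⟨z, hz⟩ := (mem_imageAlong hP₀).1 (hP₀e.ge x.2)
      have h1 : a ⟨x, hP x.2⟩ = ⟨z, hUT (hP₀ z.2)⟩ :=
        (congrArg a (Subtype.ext hz.symm : (⟨x, hP x.2⟩ : T) = b ⟨z, hUT (hP₀ z.2)⟩)).trans
          (MulAut.apply_inv_self T a _)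
      exact Set.mem_of_eq_of_mem (congrArg Subtype.val h1) z.2
    · intro hy
      refine (mem_imageAlong hP).2 ⟨⟨_, hm ⟨y, hy⟩⟩, ?_⟩
      exact congrArg Subtype.val (MulAut.apply_inv_self T a ⟨y, hUT (hP₀ hy)⟩)
  refine ⟨ψ.comp (Subgroup.inclusion him.le), restrict_mem hψ him.le, fun x hx h => ?_⟩
  have h2 := hv (Subgroup.inclusion him.le ⟨_, h⟩)
  have h3 : φ x = ((b ⟨ψ (Subgroup.inclusion him.le ⟨_, h⟩), hUT (hψU _)⟩ : T) : Ω) := by
    refine Eq.trans (congrArg φ (Subtype.ext ?_)) h2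
    exact (congrArg Subtype.val (MulAut.inv_apply_self T a ⟨x, hP x.2⟩)).symm
  exact congrArg Subtype.val ((MulAut.apply_inv_self T a _).symm.trans
    (congrArg a (Subtype.ext h3.symm : b ⟨_, _⟩ = ⟨φ x, hx⟩)))

theorem residual_eq_of_component {C : FusionSystem U} {R : FusionSystem U} (hS : IsPGroup p U)
    [Finite U] (hq : C.Quasisimple p) (hR : R.IsWeaklyNormalIn C p) : R = C := by
  rcases normal_of_quasisimple hS hq hR with h | ⟨-, h⟩
  · exact absurd ⟨⟨fun x y => Subtype.ext (C.center_le_centralizer (h y.2) x x.2)⟩⟩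
      (S5148.result p hS C hq)
  · exact sys_eq h

/-- The layer of a normal subsystem is normal. -/
theorem layer_normal (hS : IsPGroup p S) (hF : F.IsSaturated p) {D : FusionSystem T}
    (hD : D.IsNormalIn F p) {L : FusionSystem U} (hL : L.IsLayerOf D p) : L.IsNormalIn F p := by
  have hTS := normal_le hD
  have := finite_of_le (Ω := Ω) hTS
  have hUT : U ≤ T := normal_le hL.1
  have hUS := hUT.trans hTS
  have := finite_of_le (Ω := Ω) hUS
  obtain ⟨hDT, -, hDtr, hDfr⟩ := hD.1.2.2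
  have hsub : L.IsSubsystemOf F := fun P φ hφ => hDT P (hL.1.1.2.2.1 P hφ)
  have hclosed : F.StronglyClosed U := by
    refine ⟨hUS, fun P hP φ hφ x => ?_⟩
    obtain ⟨a, ha, φ₀, hφ₀, he⟩ := hDfr P (hP.trans hUT) φ hφ
    have h0 : φ₀ x ∈ U := hL.1.1.2.2.2.1.2 P hP φ₀ hφ₀ x
    obtain ⟨χ, hχ, -⟩ := layer_transport hS hD hL ha hUT (subtype_mem L le_rfl)
    rw [he x (apply_mem hφ₀ x)]
    exact dom_le hχ ((mem_imageAlong hUT).2 ⟨⟨_, h0⟩, rfl⟩)
  have hsinv : StronglyInvariant L F := by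
    intro P Q hPQ hQU φ hφ hφQ ψ hψ
    obtain ⟨a, ha, ψ₀, hψ₀, he⟩ := hDfr Q (hQU.trans hUT) ψ hψ
    obtain ⟨χ₀, hχ₀, hv₀⟩ :=
      stronglyInvariant_of_invariant hL.1.1.2.2 P Q hPQ hQU φ hφ hφQ ψ₀ hψ₀
    have hP₀ : (P.subgroupOf Q).map ψ₀ ≤ T := (dom_le hχ₀).trans hUT
    obtain ⟨χ, hχ, hv⟩ := layer_transport hS hD hL ha hP₀ hχ₀
    have him : imageAlong (T.subtype.comp a.toMonoidHom) ((P.subgroupOf Q).map ψ₀) =
        (P.subgroupOf Q).map ψ := by
      ext y
      rw [mem_imageAlong hP₀]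
      constructor
      · rintro ⟨⟨_, q, hq, rfl⟩, rfl⟩
        exact ⟨q, hq, he q _⟩
      · rintro ⟨q, hq, rfl⟩
        exact ⟨⟨_, q, hq, rfl⟩, (he q (apply_mem hψ₀ q)).symm⟩
    refine ⟨χ.comp (Subgroup.inclusion him.ge), restrict_mem hχ him.ge, fun x hx => ?_⟩
    have hm₀ : ψ₀ (Subgroup.inclusion hPQ x) ∈ (P.subgroupOf Q).map ψ₀ := ⟨_, x.2, rfl⟩
    have h1 := hv ⟨_, hm₀⟩ (hUT (apply_mem hχ₀ _))
      ((mem_imageAlong hP₀).2 ⟨⟨_, hm₀⟩, rfl⟩)
    refine (congrArg χ (Subtype.ext ?_)).trans (h1.trans ?_)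
    · exact he (Subgroup.inclusion hPQ x) (apply_mem hψ₀ _)
    · rw [he ⟨φ x, hφQ x⟩ (apply_mem hψ₀ _)]
      exact congrArg (fun t : T => ((a t : T) : Ω)) (Subtype.ext (hv₀ x hm₀))
  have hw : L.IsWeaklyNormalIn F p :=
    ⟨hL.1.1.1, hF, isInvariantIn_of_stronglyInvariant hS hF hsub hclosed hsinv⟩
  have hN := PPrimeResidual.isNormalIn_residual (hS.to_le hUS) hL.1.1.1
  have hle : L.IsSubsystemOf (PPrimeResidual.residual L p) := by
    refine hL.2.2 _ _ (ResidualNormal.isNormalIn_residual (hS.to_le hTS) hL.1.1)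
      fun V C hC => ?_
    exact ComponentCore.isSubsystem_of_subnormal (component_of_le (hS.to_le hUS) hL.1.1.1
      (component_of_le (hS.to_le hTS) hD.1.1 hC hL.1
        (ComponentCore.le_of_subsystem (hL.2.1 V C hC)))
      hN (ComponentCore.le_of_subsystem (hL.2.1 V C hC))).1
  have heq : PPrimeResidual.residual L p = L :=
    sys_eq fun P => Set.Subset.antisymm (hN.1.2.2.1 P) (hle P)
  exact heq ▸ ResidualNormal.isNormalIn_residual hS hw

/-- The components of `F` are those of its layer. -/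
theorem component_layer (hS : IsPGroup p S) (hF : F.IsSaturated p) {E : FusionSystem T}
    (hE : E.IsLayerOf F p) {C : FusionSystem U} (hC : C.IsComponentIn F p) :
    C.IsComponentIn E p :=
  component_of_le hS hF hC hE.1 (ComponentCore.le_of_subsystem (hE.2.1 U C hC))

/-- The layer is its own layer. -/
theorem layer_generated (hS : IsPGroup p S) (hF : F.IsSaturated p) {E : FusionSystem T}
    (hE : E.IsLayerOf F p) : IsGenerated E p := by
  intro V D hD hDC
  have hTS := normal_le hE.1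
  have := finite_of_le (Ω := Ω) hTS
  obtain ⟨V₂, L₂, hL₂⟩ := exists_layer (hS.to_le hTS) hE.1.1.1
  refine fun P φ hφ => hL₂.2.2 _ D hD hDC P (hE.2.2 _ L₂ (layer_normal hS hF hE.1 hL₂)
    (fun U C hC => hL₂.2.1 U C (component_layer hS hF hE hC)) P hφ)

/-- A subgroup centralized by a system, and central in its base, is in the centre. -/
theorem le_center_of_fixed {E : FusionSystem T} [Finite T] (hT : IsPGroup p T)
    (hE : E.IsSaturated p) {Z : Subgroup Ω} (hZT : Z ≤ T)
    (hc : ∀ z ∈ Z, ∀ t ∈ T, z * t = t * z)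
    (hfix : ∀ (P : Subgroup Ω) (φ : P →* Ω), φ ∈ E.Hom P → ∀ x : P, (x : Ω) ∈ Z → φ x = x) :
    Z ≤ E.center := by
  have hTZ : T ≤ centralizerIn T Z := fun t ht =>
    mem_centralizerIn.2 ⟨ht, fun z hz => hc z hz t ht⟩
  refine le_sSup ⟨hZT, fun P φ hφ => ?_⟩
  suffices h : φ ∈ (centralizerSystem E Z hZT).Hom P from
    ⟨h.2.2.2.choose, h.2.2.2.choose_spec.1, h.2.2.2.choose_spec.2.1, h.2.2.2.choose_spec.2.2⟩
  set G := centralizerSystem E Z hZT
  refine alperin_induction (C := fun P φ => φ ∈ G.Hom P) hT hE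
    (fun Q g hQ hg => G.conj_mem (hQ.trans hTZ) (hTZ hg))
    (fun _ _ _ _ _ _ h1 h2 h => G.comp_mem h1 h2 h)
    (fun _ _ _ _ h1 _ hi => inv_mem' h1 rfl fun x _ => hi x)
    (fun R _ hRc _ α hα => ?_) hφ
  have hR := hRc.1
  have hZR : Z ≤ R := fun z hz => isCentric_centralizerIn_le hRc
    (mem_centralizerIn.2 ⟨hZT hz, fun x hx => (hc z hz x (hR hx)).symm⟩)
  have hm := (mem_autGroup_iff hR).1 hα
  have hle : R ⊔ Z ≤ R := sup_le le_rfl hZR
  refine ⟨hm, hR.trans hTZ, fun x => hTZ (hR (α x).2), _, restrict_mem hm hle, fun x => rfl,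
    fun z => ?_⟩
  exact hfix R _ hm (Subgroup.inclusion hle (Subgroup.inclusion le_sup_right z)) z.2

theorem fixes_of_centralizes {E : FusionSystem T} {V : Subgroup Ω}
    (hEV : ∀ P, E.Hom P ⊆ F.centralizerHom V P) {P : Subgroup Ω} {φ : P →* Ω}
    (hφ : φ ∈ E.Hom P) (x : P) (hx : (x : Ω) ∈ V) : φ x = x := by
  obtain ⟨-, -, -, ψ, -, hψP, hψV⟩ := hEV P hφ
  exact (hψP x).symm.trans ((congrArg ψ (Subtype.ext rfl)).trans (hψV ⟨x, hx⟩))

/-- In a generated system, the maps on the base of a normal generated part are maps of it. -/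
theorem hom_of_le_base (hS : IsPGroup p S) (hF : F.IsSaturated p) (hgen : IsGenerated F p)
    {L : FusionSystem T} (hL : L.IsNormalIn F p) {Q : Subgroup Ω} (hQ : Q ≤ T) :
    F.Hom Q ⊆ L.Hom Q := by
  have hTS := normal_le hL
  have := finite_of_le (Ω := Ω) hTS
  set Y := sSup (NormalCentralizer.centralizing F L) with hYdef
  obtain ⟨hYC, hLY⟩ := NormalCentralizer.sSup_mem_centralizing hS hL
  obtain ⟨M, hM, hMT⟩ := S5155.result p hS F hF L hL Y hYC hLY
    fun Y' h1 h2 => le_sSup ⟨h1, h2⟩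
  have hYS : Y ≤ S := hYC.trans (centralizerIn_le S T)
  have := finite_of_le (Ω := Ω) hYS
  have hcomm : ∀ a ∈ T, ∀ b ∈ Y, a * b = b * a := fun a ha b hb =>
    (mem_centralizerIn.1 (hYC hb)).2 a ha
  have h₁ : T ⊓ Y ≤ L.center := le_center_of_fixed (hS.to_le hTS) hL.1.1 inf_le_left
    (fun z hz t ht => (hcomm t ht z hz.2).symm)
    fun P φ hφ x hx => fixes_of_centralizes hLY hφ x hx.2
  have h₂ : T ⊓ Y ≤ M.center := le_center_of_fixed (hS.to_le hYS) hM.1.1 inf_le_right
    (fun z hz t ht => hcomm z hz.1 t ht)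
    fun P φ hφ x hx => fixes_of_centralizes hMT hφ x hx.1
  have h : CentralProductSystem.Pair F L M p := ⟨hS, hL, hM, hcomm, h₁, h₂⟩
  have hsys : F.IsSubsystemOf h.sys := hgen _ _ h.isNormalIn fun U C hC => by
    have hUle : U ≤ T ⊔ Y := by
      rcases dich hS hF U C hC T L hL with hCL | hCT
      · exact (component_le hCL).trans le_sup_left
      · refine le_trans ?_ le_sup_right
        have hUS : U ≤ S := Transport.subnormal_le hC.1
        have h0 : U ≤ (centralizerSystem F T hTS).focalSubgroup := by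
          intro x hx
          rw [← hC.2.2.1] at hx
          refine (Subgroup.closure_le _).2 ?_ hx
          rintro _ ⟨P, α, y, hP, -, rfl⟩
          exact Subgroup.subset_closure
            ⟨P, _, y, hCT P ((mem_autGroup_iff hP).1 α.2), rfl⟩
        exact h0.trans (le_sSup ⟨focalSubgroup_le _,
          fun P => NormalCentralizer.hom_subset_centralizerHom_focal hS hL hTS P⟩)
    exact ComponentCore.isSubsystem_of_subnormal
      (component_of_le hS hF hC h.isNormalIn hUle).1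
  intro φ hφ
  obtain ⟨φ₁, hφ₁, φ₂, hφ₂, hv⟩ := h.exists_split (hsys Q hφ)
  have hproj : ∀ x ∈ Q, x ∈ CentralProductSystem.proj T Y Q := fun x hx =>
    CentralProductSystem.mem_proj (hQ hx) (one_mem _) (by rwa [mul_one])
  refine mem_of_le hφ₁ hproj fun x => ?_
  have h1 : (1 : Ω) ∈ CentralProductSystem.proj Y T Q := one_mem _
  rw [hv x x 1 (hproj x x.2) h1 (mul_one _),
    show (⟨1, h1⟩ : ↥(CentralProductSystem.proj Y T Q)) = 1 from Subtype.ext rfl, map_one, mul_one]
  rfl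

/-- **The components of a generated system are normal in it.** -/
theorem component_normal : ∀ (n : ℕ) {S : Subgroup Ω} [Finite S] (F : FusionSystem S),
    gsize F ≤ n → IsPGroup p S → F.IsSaturated p → IsGenerated F p →
      ∀ {U : Subgroup Ω} (C : FusionSystem U), C.IsComponentIn F p → C.IsNormalIn F p := by
  intro n
  induction n using Nat.strong_induction_on with
  | _ n IH =>
  intro S _ F hn hS hF hgen U C hC
  rcases subnormal_cases hC.1 ‹_› with ⟨hUS, hhom⟩ | ⟨T₀, D₀, hD₀, hlt, hCD₀⟩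
  · subst hUS
    obtain rfl := sys_eq hhom
    exact isNormalIn_self hF
  have hT₀S := normal_le hD₀
  have := finite_of_le (Ω := Ω) hT₀S
  obtain ⟨T, L, hL⟩ := exists_layer (hS.to_le hT₀S) hD₀.1.1
  have hLF := layer_normal hS hF hD₀ hL
  have hTS := normal_le hLF
  have := finite_of_le (Ω := Ω) hTS
  have hCL := component_layer (hS.to_le hT₀S) hD₀.1.1 hL ⟨hCD₀, hC.2⟩
  have hCn : C.IsNormalIn L p :=
    IH (gsize L) (by have := gsize_le hL.1.1.2.2.1; omega) L le_rfl (hS.to_le hTS) hL.1.1.1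
      (layer_generated (hS.to_le hT₀S) hD₀.1.1 hL) C hCL
  have hUT : U ≤ T := component_le hCL
  have hUS := hUT.trans hTS
  have := finite_of_le (Ω := Ω) hUS
  have hclosed : F.StronglyClosed U := ⟨hUS, fun P hP φ hφ x =>
    hCn.1.2.2.2.1.2 P hP φ (hom_of_le_base hS hF hgen hLF (hP.trans hUT) hφ) x⟩
  have hsinv : StronglyInvariant C F := fun P Q hPQ hQ φ hφ hφQ ψ hψ =>
    stronglyInvariant_of_invariant hCn.1.2.2 P Q hPQ hQ φ hφ hφQ ψ
      (hom_of_le_base hS hF hgen hLF (hQ.trans hUT) hψ)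
  have hw : C.IsWeaklyNormalIn F p := ⟨hC.2.1, hF, isInvariantIn_of_stronglyInvariant hS hF
    (ComponentCore.isSubsystem_of_subnormal hC.1) hclosed hsinv⟩
  have h := ResidualNormal.isNormalIn_residual hS hw
  rwa [residual_eq_of_component (hS.to_le hUS) hC.2
    (PPrimeResidual.isNormalIn_residual (hS.to_le hUS) hC.2.1).1] at h

/-- **Each component is normal in the layer.** -/
theorem component_normal_layer (hS : IsPGroup p S) (hF : F.IsSaturated p) {E : FusionSystem T}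
    (hE : E.IsLayerOf F p) {C : FusionSystem U} (hC : C.IsComponentIn F p) :
    C.IsNormalIn E p :=
  haveI := finite_of_le (Ω := Ω) (normal_le hE.1)
  component_normal _ E le_rfl (hS.to_le (normal_le hE.1)) hE.1.1.1 (layer_generated hS hF hE) C
    (component_layer hS hF hE hC)

end Cfsg.Agent.Fusion.Components
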