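import Cfsg.Agent.Lib.Fusion.Meet.Kernel
import Cfsg.Agent.Lib.Fusion.Factor
import Cfsg.Agent.Lib.Fusion.Stabilizer
import Cfsg.Agent.Lib.Fusion.NormalCentralizer
import Cfsg.Agent.Lib.Fusion.ResidualNormal

/-!
A normal subsystem `D` over `T` and a strongly closed `V`: automorphisms in `D` of order prime to
`p` fixing `T ⊓ V` commute with what `V` induces, and extend fixing `V`.
-/

set_option autoImplicit false
set_option linter.unusedSectionVars false

namespace Cfsg.Agent.Fusion.Components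

open Cfsg Cfsg.FusionSystem Cfsg.Agent.Fusion Cfsg.Agent.Fusion.NormalCentralizer

universe u

variable {Ω : Type u} [Group Ω] {S T V : Subgroup Ω} {F : FusionSystem S} {D : FusionSystem T}
  {p : ℕ}

theorem stronglyClosed_bot' (F : FusionSystem S) : F.StronglyClosed ⊥ :=
  ⟨bot_le, fun R hR φ _ x => by
    obtain rfl : x = 1 := Subtype.ext (Subgroup.mem_bot.1 (hR x.2))
    rw [map_one]; exact Subgroup.one_mem _⟩

/-- The automorphisms of `X` in `F` acting trivially on `X ⊓ L` modulo `M`. -/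
def relKernel (F : FusionSystem S) {L M : Subgroup Ω} (hL : F.StronglyClosed L)
    (hM : F.StronglyClosed M) {X : Subgroup Ω} (hX : X ≤ S) : Subgroup (F.autGroup X) where
  carrier := {b | ∀ x : X, (x : Ω) ∈ L → (x : Ω)⁻¹ * ((b : MulAut X) x : X) ∈ M}
  one_mem' x _ := by simp
  mul_mem' := by
    intro a b ha hb x hx
    have h1 := M.mul_mem (hb x hx)
      (ha ((b : MulAut X) x) (apply_mem_of_stronglyClosed hL hX b.2 hx))
    simpa [mul_assoc] using h1
  inv_mem' := by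
    intro a ha x hx
    have h0 := apply_mem_of_stronglyClosed hL hX (inv_mem a.2) hx
    have h1 := M.inv_mem (ha ((a : MulAut X)⁻¹ x) h0)
    rw [MulAut.apply_inv_self] at h1
    simpa using h1

theorem mem_relKernel {L M : Subgroup Ω} {hL : F.StronglyClosed L} {hM : F.StronglyClosed M}
    {X : Subgroup Ω} {hX : X ≤ S} {b : F.autGroup X} :
    b ∈ relKernel F hL hM hX ↔
      ∀ x : X, (x : Ω) ∈ L → (x : Ω)⁻¹ * ((b : MulAut X) x : X) ∈ M := Iff.rfl

theorem relKernel_normal {L M : Subgroup Ω} (hL : F.StronglyClosed L) (hM : F.StronglyClosed M)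
    {X : Subgroup Ω} (hX : X ≤ S) : (relKernel F hL hM hX).Normal := by
  refine ⟨fun k hk a x hx => ?_⟩
  obtain ⟨y, rfl⟩ := (a : MulAut X).surjective x
  show (((a : MulAut X) y : X) : Ω)⁻¹ *
    ((a : MulAut X) ((k : MulAut X) ((a : MulAut X)⁻¹ ((a : MulAut X) y))) : X) ∈ M
  rw [MulAut.inv_apply_self]
  have hy : (y : Ω) ∈ L := by
    have h0 := apply_mem_of_stronglyClosed hL hX (inv_mem a.2) hx
    rwa [MulAut.inv_apply_self] at h0
  have h1 : ((y⁻¹ * (k : MulAut X) y : X) : Ω) ∈ M := hk y hy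
  have h2 := apply_mem_of_stronglyClosed hM hX a.2 (x := y⁻¹ * (k : MulAut X) y) h1
  simpa using h2

variable [Finite S] [Fact p.Prime]

/-- An automorphism trivial modulo `Y` a `p`-power power of which fixes `Y` has `p`-power order. -/
theorem exists_pow_eq_one_of_mod {X : Type*} [Group X] [Finite X] (hX : IsPGroup p X)
    {b : MulAut X} (Y : Subgroup X) (hb : ∀ x, x⁻¹ * b x ∈ Y) {k : ℕ}
    (hk : ∀ y ∈ Y, (b ^ p ^ k) y = y) : ∃ l : ℕ, b ^ p ^ l = 1 := by
  have hpow : ∀ (n : ℕ) (x : X), x⁻¹ * (b ^ n) x ∈ Y := by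
    intro n
    induction n with
    | zero => intro x; simp
    | succ n ih =>
      intro x
      have h1 := Y.mul_mem (hb x) (ih (b x))
      rw [pow_succ, MulAut.mul_apply]
      simpa [mul_assoc] using h1
  set c := b ^ p ^ k with hc
  have hm : ∀ (m : ℕ) (x : X), (c ^ m) x = x * (x⁻¹ * c x) ^ m := by
    intro m
    induction m with
    | zero => simp
    | succ m ih =>
      intro x
      rw [pow_succ', MulAut.mul_apply, ih, map_mul, map_pow, hk _ (hpow _ x), pow_succ',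
        ← mul_assoc, mul_inv_cancel_left]
  obtain ⟨j, hj⟩ := IsPGroup.iff_card.1 hX
  refine ⟨k + j, ?_⟩
  rw [pow_add, pow_mul, ← hc]
  refine MulEquiv.ext fun x => ?_
  rw [hm, ← hj, pow_card_eq_one', mul_one]
  rfl

/-- A normal `p`-subgroup of the automizer of a fully normalized subgroup is induced by `S`. -/
theorem mem_autInducedBy_of_normal (hS : IsPGroup p S) (hF : F.IsSaturated p) {X : Subgroup Ω}
    (hX : F.IsFullyNormalized X) (K : Subgroup (F.autGroup X)) (hKn : K.Normal)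
    (hK : ∀ b ∈ K, ∃ l : ℕ, (b : MulAut X) ^ p ^ l = 1) {b : F.autGroup X} (hb : b ∈ K) :
    (b : MulAut X) ∈ autInducedBy S X := by
  have := finite_autGroup (F := F) hX.1
  have hKp : IsPGroup p K := fun b => by
    obtain ⟨l, hl⟩ := hK b b.2
    exact ⟨l, Subtype.ext (Subtype.ext hl)⟩
  obtain ⟨-, Y, hY⟩ := isFullyAutomized_of_fullyNormalized hS hF hX
  obtain ⟨Y', hY'⟩ := hKp.exists_le_sylow
  obtain ⟨d, hd⟩ := MulAction.exists_smul_eq (F.autGroup X) Y' Y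
  have h1 : b ∈ (Y : Subgroup (F.autGroup X)) := by
    rw [← hd, Sylow.coe_subgroup_smul]
    have h2 : d⁻¹ * b * d ∈ K := by simpa using hKn.conj_mem b hb d⁻¹
    have h3 := Subgroup.smul_mem_pointwise_smul _ (MulAut.conj d) _ (hY' h2)
    simpa [mul_assoc] using h3
  rw [hY] at h1
  exact h1

theorem sub_of_centralizes {Q : Subgroup Ω} {t : Ω} (hV : F.StronglyClosed V) (hQ : Q ≤ S)
    (ht : t ∈ V) (htN : t ∈ Subgroup.normalizer (Q : Set Ω)) (x : Q) :
    (x : Ω)⁻¹ * ((conjAut htN x : Q) : Ω) ∈ V := by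
  show (x : Ω)⁻¹ * (t * x * t⁻¹) ∈ V
  have h1 := (Subgroup.mem_normalizer_iff.1
    (le_normalizer_of_stronglyClosed hV (S.inv_mem (hQ x.2))) t).1 ht
  rw [inv_inv] at h1
  have h2 := V.mul_mem h1 (V.inv_mem ht)
  simpa [mul_assoc] using h2

/-- An automorphism in `D` of order prime to `p` fixing `Q ⊓ V` commutes with what `V` induces. -/
theorem commute_of_fix (hS : IsPGroup p S) (hD : D.IsNormalIn F p) (hV : F.StronglyClosed V)
    {Q : Subgroup Ω} (hQn : F.IsFullyNormalized Q) (hQT : Q ≤ T)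
    (hR : ∀ r ∈ T ⊓ V, ∀ x ∈ Q, r * x = x * r) {a : MulAut Q} (ha : a ∈ D.autGroup Q)
    (hc : (orderOf a).Coprime p) (hfix : ∀ x : Q, (x : Ω) ∈ V → a x = x) {t : Ω} (ht : t ∈ V)
    (htN : t ∈ Subgroup.normalizer (Q : Set Ω)) : a * conjAut htN = conjAut htN * a := by
  obtain ⟨⟨hDs, hF, hDi⟩, -⟩ := id hD
  have hT : F.StronglyClosed T := hDi.2.1
  have hQS := hQn.1
  have hTS := hT.1
  have := finite_of_le (Ω := Ω) hQS
  have := finite_mulAut (Ω := Ω) hQS
  have htS := hV.1 ht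
  have hQp : IsPGroup p Q := hS.to_le hQS
  have haF : a ∈ F.autGroup Q := autGroup_le_of_subsystem hDi.1 hQT ha
  have hcF : conjAut htN ∈ F.autGroup Q :=
    autInducedBy_le_autGroup F hQS (conjAut_mem_autInducedBy htS htN)
  -- the stabilizer of `Q ≥ Q ⊓ V ≥ 1`
  set K := relKernel F (stronglyClosed_self F) hV hQS ⊓
    relKernel F hV (stronglyClosed_bot' F) hQS with hKdef
  have hKn : K.Normal := by
    have := relKernel_normal (stronglyClosed_self F) hV hQS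
    have := relKernel_normal hV (stronglyClosed_bot' F) hQS
    exact inferInstanceAs (relKernel F (stronglyClosed_self F) hV hQS ⊓
      relKernel F hV (stronglyClosed_bot' F) hQS).Normal
  have hKp : ∀ b ∈ K, ∃ l : ℕ, (b : MulAut Q) ^ p ^ l = 1 := by
    intro b hb
    refine exists_pow_eq_one_of_mod hQp (V.subgroupOf Q) (fun x => hb.1 x (hQS x.2)) (k := 0)
      fun y hy => ?_
    rw [pow_zero, pow_one]
    exact Subtype.ext (inv_mul_eq_one.1 (Subgroup.mem_bot.1 (hb.2 y hy))).symm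
  set cF : F.autGroup Q := ⟨conjAut htN, hcF⟩ with hcFdef
  set aF : F.autGroup Q := ⟨a, haF⟩ with haFdef
  have hmodc : cF ∈ relKernel F (stronglyClosed_self F) hV hQS := fun x _ =>
    sub_of_centralizes hV hQS ht htN x
  have hfixa : aF ∈ relKernel F hV (stronglyClosed_bot' F) hQS := fun x hx => by
    show (x : Ω)⁻¹ * ((a x : Q) : Ω) ∈ (⊥ : Subgroup Ω)
    rw [hfix x hx, inv_mul_cancel]; exact one_mem _
  set τ : F.autGroup Q := cF⁻¹ * aF * cF * aF⁻¹ with hτ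
  have hn₁ := relKernel_normal (stronglyClosed_self F) hV hQS
  have hn₂ := relKernel_normal hV (stronglyClosed_bot' F) hQS
  have hτK : τ ∈ K := by
    refine ⟨?_, ?_⟩
    · rw [hτ, show cF⁻¹ * aF * cF * aF⁻¹ = cF⁻¹ * (aF * cF * aF⁻¹) by group]
      exact mul_mem (Subgroup.inv_mem _ hmodc) (hn₁.conj_mem _ hmodc aF)
    · rw [hτ]
      exact mul_mem (by simpa using hn₂.conj_mem _ hfixa cF⁻¹) (Subgroup.inv_mem _ hfixa)
  have hτS := mem_autInducedBy_of_normal hS hF hQn K hKn hKp hτK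
  have hτD : (τ : MulAut Q) ∈ D.autGroup Q := by
    have h1 := conj_mem_autGroup_of_invariant hDi hQT (inv_mem hcF) ha
    rw [inv_inv] at h1
    exact mul_mem h1 (inv_mem ha)
  obtain ⟨u, hu, hue⟩ := mem_autInducedBy_iff.1
    (Meet.autInducedBy_inf_autGroup_le hS hD.1 hQT hQn ⟨hτS, hτD⟩)
  -- `a c_t a⁻¹` is induced by an element of `V`
  obtain ⟨w, hw, hwe⟩ : ∃ w ∈ S, ∀ x : Q,
      (((a * conjAut htN * a⁻¹) x : Q) : Ω) = w * (x : Ω) * w⁻¹ := by
    have h1 : a * conjAut htN * a⁻¹ = conjAut htN * (τ : MulAut Q) := by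
      show a * conjAut htN * a⁻¹ =
        conjAut htN * ((conjAut htN)⁻¹ * a * conjAut htN * a⁻¹)
      group
    rw [h1]
    exact mem_autInducedBy_iff.1
      (mul_mem (conjAut_mem_autInducedBy htS htN) hτS)
  obtain ⟨haφ, har⟩ := hom_of_mem_autGroup hQS haF
  have hext : Q ⊔ Subgroup.zpowers t ≤ extender S Q (Q.subtype.comp a.toMonoidHom) := by
    refine sup_le (le_extender hQS fun x => apply_mem haφ x) (Subgroup.zpowers_le.2 ?_)
    refine mem_extender_iff.2 ⟨htS, htN, w, hw, fun x hx => ?_⟩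
    have h1 := hwe (a x)
    rw [MulAut.mul_apply, MulAut.mul_apply, MulAut.inv_apply_self] at h1
    exact h1
  obtain ⟨β, hβ, hβe⟩ :=
    exists_extension (isReceptive_of_fullyNormalized hS hF hQn) haφ har hext
  have htW : t ∈ Q ⊔ Subgroup.zpowers t := Subgroup.mem_sup_right (Subgroup.mem_zpowers t)
  set t' := β ⟨t, htW⟩ with ht'
  have ht'V : t' ∈ V := apply_mem_closed hV hβ _ ht
  set t₂ := t⁻¹ * t' with ht₂
  have ht₂V : t₂ ∈ V := V.mul_mem (V.inv_mem ht) ht'V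
  have hτe : ∀ x : Q, (((τ : MulAut Q) x : Q) : Ω) = t₂ * (x : Ω) * t₂⁻¹ := by
    intro x
    obtain ⟨y, rfl⟩ := a.surjective x
    show ((((conjAut htN)⁻¹ * a * conjAut htN * a⁻¹) (a y) : Q) : Ω) = _
    rw [MulAut.mul_apply, MulAut.mul_apply, MulAut.mul_apply, MulAut.inv_apply_self]
    have h1 : ((a (conjAut htN y) : Q) : Ω) = t' * (a y : Q) * t'⁻¹ := by
      show Q.subtype.comp a.toMonoidHom ⟨_, _⟩ = _ * Q.subtype.comp a.toMonoidHom ⟨(y : Ω), y.2⟩ * _
      rw [← hβe (y : Ω) y.2 (Subgroup.mem_sup_left y.2)]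
      refine (hβe _ (conjAut htN y).2 (Subgroup.mem_sup_left (conjAut htN y).2)).symm.trans ?_
      rw [ht', ← map_inv, ← map_mul, ← map_mul]
      exact congrArg β (Subtype.ext rfl)
    obtain ⟨z, hz⟩ := (conjAut htN).surjective (a (conjAut htN y))
    rw [← hz, MulAut.inv_apply_self, ht₂]
    have h2 : t * (z : Ω) * t⁻¹ = t' * (a y : Q) * t'⁻¹ :=
      (congrArg Subtype.val hz).trans h1
    calc (z : Ω) = t⁻¹ * (t * z * t⁻¹) * t := by group
      _ = t⁻¹ * t' * (a y : Q) * (t⁻¹ * t')⁻¹ := by rw [h2]; group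
  -- `a` and `τ` commute
  have hτc : (a * (τ : MulAut Q) * a⁻¹) = (τ : MulAut Q) := by
    set Wt := autInducedBy T Q ⊓ (Inn Q ⊔ K.map (F.autGroup Q).subtype) with hWt
    have hInn : Inn Q ≤ Wt := le_inf (inn_le_autInducedBy hQT) le_sup_left
    have hKS : K.map (F.autGroup Q).subtype ≤ autInducedBy S Q := by
      rintro _ ⟨b, hb, rfl⟩
      exact mem_autInducedBy_of_normal hS hF hQn K hKn hKp hb
    have han : ∀ z ∈ Wt, a * z * a⁻¹ ∈ Wt := by
      rintro z ⟨hz₁, hz₂⟩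
      have h2 : a * z * a⁻¹ ∈ Inn Q ⊔ K.map (F.autGroup Q).subtype := by
        suffices Inn Q ⊔ K.map (F.autGroup Q).subtype ≤
            (Inn Q ⊔ K.map (F.autGroup Q).subtype).comap (MulAut.conj a).toMonoidHom from this hz₂
        refine sup_le (fun i hi => Subgroup.mem_sup_left ((inn_normal Q).conj_mem _ hi a)) ?_
        rintro _ ⟨b, hb, rfl⟩
        exact Subgroup.mem_sup_right ⟨aF * b * aF⁻¹, hKn.conj_mem b hb aF, rfl⟩
      refine ⟨Meet.autInducedBy_inf_autGroup_le hS hD.1 hQT hQn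
        ⟨sup_le (inn_le_autInducedBy hQS) hKS h2, ?_⟩, h2⟩
      exact mul_mem (mul_mem ha (autInducedBy_le_autGroup D hQT hz₁)) (Subgroup.inv_mem _ ha)
    obtain ⟨γ, hγ, hγQ, hγC⟩ :=
      Meet.exists_ext_mod hS hD hQT hQn inf_le_left hInn ha hc han
    let M := Criterion.inducing T Q Wt ⊔ centralizerIn S Q
    have huN : u ∈ Subgroup.normalizer (Q : Set Ω) := mem_normalizer_of_aut hue
    have huM : u ∈ M := Subgroup.mem_sup_left (Criterion.mem_inducing.2 ⟨hu, huN, by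
      rw [show conjAut huN = (τ : MulAut Q) from MulEquiv.ext fun z => Subtype.ext (hue z).symm]
      exact ⟨mem_autInducedBy_iff.2 ⟨u, hu, hue⟩,
        Subgroup.mem_sup_right ⟨τ, hτK, rfl⟩⟩⟩)
    set d := u⁻¹ * t₂ with hd
    have hdC : d ∈ centralizerIn S Q := by
      refine mem_centralizerIn.2 ⟨S.mul_mem (S.inv_mem (hTS hu)) (hV.1 ht₂V), fun z hz => ?_⟩
      have h1 := (hue ⟨z, hz⟩).symm.trans (hτe ⟨z, hz⟩)
      calc z * (u⁻¹ * t₂) = u⁻¹ * (u * z * u⁻¹) * t₂ := by group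
        _ = u⁻¹ * (t₂ * z * t₂⁻¹) * t₂ := by rw [h1]
        _ = u⁻¹ * t₂ * z := by group
    have hdM : d ∈ M := Subgroup.mem_sup_right hdC
    have ht₂M : t₂ ∈ M := by
      rw [show t₂ = u * d by rw [hd, mul_inv_cancel_left]]
      exact M.mul_mem huM hdM
    set s' := γ ⟨t₂, ht₂M⟩ with hs'
    set z₀ := d⁻¹ * γ ⟨d, hdM⟩ with hz₀
    have hs'e : s' = γ ⟨u, huM⟩ * (d * z₀) := by
      rw [hs', hz₀, mul_inv_cancel_left, ← map_mul]
      exact congrArg γ (Subtype.ext (by show t₂ = u * d; rw [hd, mul_inv_cancel_left]))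
    set r := t₂ * s'⁻¹ with hr
    have hrR : r ∈ T ⊓ V := by
      refine ⟨?_, V.mul_mem ht₂V (V.inv_mem (apply_mem_closed hV hγ _ ht₂V))⟩
      rw [hr, hs'e, show t₂ = u * d by rw [hd, mul_inv_cancel_left],
        show u * d * (γ ⟨u, huM⟩ * (d * z₀))⁻¹ =
          u * (d * z₀⁻¹ * d⁻¹) * (γ ⟨u, huM⟩)⁻¹ by group]
      exact T.mul_mem (T.mul_mem hu ((Subgroup.mem_normalizer_iff.1
        (le_normalizer_of_stronglyClosed hT hdC.1) _).1 (T.inv_mem (hγC ⟨d, hdM⟩ hdC))))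
        (T.inv_mem (apply_mem_closed hT hγ _ hu))
    refine MulEquiv.ext fun x => ?_
    obtain ⟨y, rfl⟩ := a.surjective x
    rw [MulAut.mul_apply, MulAut.mul_apply, MulAut.inv_apply_self]
    refine Subtype.ext ?_
    have hQM : ∀ z : Q, (z : Ω) ∈ M := fun z => Subgroup.mem_sup_left (Criterion.mem_inducing.2
      ⟨hQT z.2, Subgroup.le_normalizer z.2, hInn ⟨z, MulEquiv.ext fun z => Subtype.ext rfl⟩⟩)
    rw [hτe (a y), ← hγQ _ (hQM ((τ : MulAut Q) y)),
      show (⟨(((τ : MulAut Q) y : Q) : Ω), hQM _⟩ : M) =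
        ⟨t₂, ht₂M⟩ * ⟨(y : Ω), hQM y⟩ * (⟨t₂, ht₂M⟩)⁻¹ from Subtype.ext (hτe y),
      map_mul, map_mul, map_inv, hγQ, ← hs']
    have hs'r : s' = r⁻¹ * t₂ := by rw [hr]; group
    have hw : t₂ * (a y : Q) * t₂⁻¹ ∈ Q := hτe (a y) ▸ ((τ : MulAut Q) (a y)).2
    calc s' * (a y : Q) * s'⁻¹ = r⁻¹ * ((t₂ * (a y : Q) * t₂⁻¹) * r) := by rw [hs'r]; group
      _ = r⁻¹ * (r * (t₂ * (a y : Q) * t₂⁻¹)) := by rw [hR r hrR _ hw]
      _ = t₂ * (a y : Q) * t₂⁻¹ := inv_mul_cancel_left _ _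
  have hcomm : Commute a (τ : MulAut Q) := mul_inv_eq_iff_eq_mul.1 hτc
  have hstep : ∀ m : ℕ, a ^ m * conjAut htN = conjAut htN * (τ : MulAut Q) ^ m * a ^ m := by
    intro m
    induction m with
    | zero => simp
    | succ m ih =>
      have h1 : a * conjAut htN = conjAut htN * (τ : MulAut Q) * a := by
        show a * conjAut htN = conjAut htN * ((conjAut htN)⁻¹ * a * conjAut htN * a⁻¹) * a
        group
      rw [pow_succ', mul_assoc, ih, ← mul_assoc, ← mul_assoc, h1, mul_assoc (_ * _) a,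
        (hcomm.pow_right m).eq, pow_succ' (τ : MulAut Q)]
      simp only [mul_assoc]
  have h1 := hstep (orderOf a)
  rw [pow_orderOf_eq_one, one_mul, mul_one] at h1
  have hτm : (τ : MulAut Q) ^ orderOf a = 1 := mul_eq_left.1 h1.symm
  obtain ⟨l, hl⟩ := hKp τ hτK
  have hτ1 : (τ : MulAut Q) = 1 := orderOf_eq_one_iff.1 (Nat.eq_one_of_dvd_coprimes
    (hc.pow_right l) (orderOf_dvd_of_pow_eq_one hτm) (orderOf_dvd_of_pow_eq_one hl))
  have h2 := hstep 1
  rwa [pow_one, pow_one, hτ1, mul_one] at h2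

/-- A power argument: an automorphism of order prime to `p` extending `a`. -/
theorem exists_coprime_ext_of_ext {Q W : Subgroup Ω} (hQW : Q ≤ W) (hW : W ≤ S) {β : MulAut W}
    {a : MulAut Q} (hc : (orderOf a).Coprime p)
    (he : ∀ x : Q, β (Subgroup.inclusion hQW x) = Subgroup.inclusion hQW (a x)) :
    ∃ n : ℕ, (orderOf (β ^ n)).Coprime p ∧
      ∀ x : Q, (β ^ n) (Subgroup.inclusion hQW x) = Subgroup.inclusion hQW (a x) := by
  have := finite_mulAut (Ω := Ω) hW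
  have hpow : ∀ (n : ℕ) (x : Q), (β ^ n) (Subgroup.inclusion hQW x) =
      Subgroup.inclusion hQW ((a ^ n) x) := by
    intro n
    induction n with
    | zero => exact fun x => rfl
    | succ n ih =>
      intro x
      rw [pow_succ, pow_succ, MulAut.mul_apply, MulAut.mul_apply, he, ih]
  obtain ⟨k, m, hm, hord⟩ := Nat.exists_eq_pow_mul_and_not_dvd (orderOf_pos β).ne' p
    (Fact.out : p.Prime).ne_one
  have hmc : m.Coprime p := ((Fact.out : p.Prime).coprime_iff_not_dvd.2 hm).symm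
  obtain ⟨j, hj⟩ := exists_pow_eq_self_of_coprime (x := a) (n := p ^ k) (hc.pow_right k).symm
  refine ⟨p ^ k * j, Nat.Coprime.coprime_dvd_left (k := m) ?_ hmc, fun x => ?_⟩
  · refine orderOf_dvd_of_pow_eq_one ?_
    rw [← pow_mul, show p ^ k * j * m = p ^ k * m * j by ring, ← hord, pow_mul, pow_orderOf_eq_one,
      one_pow]
  · rw [hpow, pow_mul, hj]

set_option maxHeartbeats 1000000 in
/-- An automorphism in `D` of order prime to `p` fixing `T ⊓ V` and commuting with what `V` induces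
extends fixing `V`. -/
theorem exists_fix_ext (hS : IsPGroup p S) (hD : D.IsNormalIn F p) (hV : F.StronglyClosed V)
    {Q : Subgroup Ω} (hQn : F.IsFullyNormalized Q) (hXn : F.IsFullyNormalized (rc S Q))
    (hQT : Q ≤ T) (hRQ : T ⊓ V ≤ Q) (hVN : V ≤ Subgroup.normalizer (Q : Set Ω))
    {a : MulAut Q} (ha : a ∈ D.autGroup Q) (hc : (orderOf a).Coprime p)
    (hfix : ∀ x : Q, (x : Ω) ∈ V → a x = x)
    (hcomm : ∀ v (hv : v ∈ V), a * conjAut (hVN hv) = conjAut (hVN hv) * a) :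
    ∃ ψ ∈ F.Hom (Q ⊔ V), (∀ x : Q, ψ (Subgroup.inclusion le_sup_left x) = ((a x : Q) : Ω)) ∧
      ∀ v : V, ψ (Subgroup.inclusion le_sup_right v) = (v : Ω) := by
  obtain ⟨⟨hDs, hF, hDi⟩, -⟩ := id hD
  have hT : F.StronglyClosed T := hDi.2.1
  have hQS := hQn.1
  have hVS := hV.1
  have hR : F.StronglyClosed (T ⊓ V) := ⟨inf_le_left.trans hT.1, fun P hP φ hφ x =>
    ⟨hT.2 P (hP.trans inf_le_left) φ hφ x, hV.2 P (hP.trans inf_le_right) φ hφ x⟩⟩
  obtain ⟨γ₀, hγ₀, hγ₀Q, hγ₀C⟩ := Meet.exists_ext_mod hS hD hQT hQn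
    (inn_le_autInducedBy hQT : Inn Q ≤ autInducedBy T Q) le_rfl ha hc
    (fun w hw => (inn_normal Q).conj_mem _ hw a)
  let M := Criterion.inducing T Q (Inn Q) ⊔ centralizerIn S Q
  let X := rc S Q
  have hQM : Q ≤ M := fun u hu => Subgroup.mem_sup_left (Criterion.mem_inducing.2
    ⟨hQT hu, Subgroup.le_normalizer hu, ⟨⟨u, hu⟩, MulEquiv.ext fun z => Subtype.ext rfl⟩⟩)
  have hXM : X ≤ M := sup_le hQM le_sup_right
  have hXS : X ≤ S := sup_le hQS (centralizerIn_le S Q)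
  have := finite_of_le (Ω := Ω) hXS
  have := finite_mulAut (Ω := Ω) hXS
  have hγ := restrict_mem hγ₀ hXM
  set γ' := γ₀.comp (Subgroup.inclusion hXM) with hγ'
  have hγQ : ∀ x : Q, γ' (Subgroup.inclusion le_sup_left x) = ((a x : Q) : Ω) := fun x =>
    hγ₀Q x _
  have hγCmem : ∀ c : X, (c : Ω) ∈ centralizerIn S Q → γ' c ∈ centralizerIn S Q := fun c hc' =>
    map_centralizerIn le_sup_left hγ (fun y hy => by
      rw [show y = Subgroup.inclusion le_sup_left (⟨(y : Ω), hy⟩ : Q) from rfl, hγQ]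
      exact (a _).2) c hc'
  have hγr : γ'.range = X := range_eq_of_le hγ hXS (forall_sup_mem γ'
    (fun x => Subgroup.mem_sup_left (by rw [hγQ]; exact (a x).2))
    fun c => Subgroup.mem_sup_right (hγCmem _ c.2)) le_rfl
  let γ : F.autGroup X := ⟨toAut hγ hγr, toAut_mem hγ hγr⟩
  have hγv : ∀ x : X, (((γ : MulAut X) x : X) : Ω) = γ' x := fun x => coe_toAut hγ hγr x
  have hfixR : ∀ x : X, (x : Ω) ∈ T ⊓ V → (γ : MulAut X) x = x := by
    intro x hx
    refine Subtype.ext ((hγv x).trans ?_)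
    rw [show x = Subgroup.inclusion le_sup_left (⟨(x : Ω), hRQ hx⟩ : Q) from rfl, hγQ,
      hfix _ hx.2]
    rfl
  have hnT := relKernel_normal (stronglyClosed_self F) hT hXS
  have hnR := relKernel_normal hT hR hXS
  have hn0 := relKernel_normal hR (stronglyClosed_bot' F) hXS
  set K := relKernel F (stronglyClosed_self F) hT hXS ⊓ relKernel F hT hR hXS ⊓
    relKernel F hR (stronglyClosed_bot' F) hXS with hKdef
  have hKn : K.Normal := inferInstanceAs (relKernel F (stronglyClosed_self F) hT hXS ⊓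
    relKernel F hT hR hXS ⊓ relKernel F hR (stronglyClosed_bot' F) hXS).Normal
  have hXp : IsPGroup p X := hS.to_le hXS
  have hKp : ∀ b ∈ K, ∃ l : ℕ, (b : MulAut X) ^ p ^ l = 1 := by
    rintro b ⟨⟨hb₁, hb₂⟩, hb₃⟩
    have hXT : X ⊓ T ≤ S := inf_le_left.trans hXS
    have := finite_of_le (Ω := Ω) hXT
    obtain ⟨hbφ, -⟩ := hom_of_mem_autGroup hXS b.2
    have hres := restrict_mem hbφ (inf_le_left : X ⊓ T ≤ X)
    have hr' := range_eq_of_le hres hXT
      (fun x => ⟨((b : MulAut X) _).2, hT.2 _ inf_le_right _ hres x⟩) le_rfl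
    obtain ⟨l, hl⟩ := exists_pow_eq_one_of_mod (hS.to_le hXT) (b := toAut hres hr')
      ((T ⊓ V).subgroupOf (X ⊓ T)) (fun x => hb₂ ⟨x, x.2.1⟩ x.2.2) (k := 0) (fun y hy => by
        rw [pow_zero, pow_one]
        exact Subtype.ext (inv_mul_eq_one.1
          (Subgroup.mem_bot.1 (hb₃ ⟨y, y.2.1⟩ hy))).symm)
    refine exists_pow_eq_one_of_mod hXp (T.subgroupOf X) (fun x => hb₁ x (hXS x.2)) (k := l)
      fun y hy => ?_
    have hpw : ∀ (n : ℕ) (z : ↥(X ⊓ T)), (((toAut hres hr' ^ n) z : ↥(X ⊓ T)) : Ω) =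
        ((((b : MulAut X) ^ n) ⟨z, z.2.1⟩ : X) : Ω) := by
      intro n
      induction n with
      | zero => exact fun z => rfl
      | succ n ih =>
        intro z
        rw [pow_succ, pow_succ, MulAut.mul_apply, MulAut.mul_apply, ih]
        rfl
    have h1 := hpw (p ^ l) ⟨y, y.2, hy⟩
    rw [hl] at h1
    exact Subtype.ext h1.symm
  have hQ' : Q ≤ X := le_sup_left
  -- conjugation by `V` on `X`
  have hXN : V ≤ Subgroup.normalizer (X : Set Ω) := fun v hv =>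
    KNorm.normalizer_inf_normalizer_le_normalizer_sup
      ⟨hVN hv, NormalExtensions.mem_normalizer_centralizerIn (hVS hv) (hVN hv)⟩
  let cv : V → F.autGroup X := fun v =>
    ⟨conjAut (hXN v.2), autInducedBy_le_autGroup F hXS
      (conjAut_mem_autInducedBy (hVS v.2) (hXN v.2))⟩
  have hVmodR : ∀ v : V, cv v ∈ relKernel F hT hR hXS := by
    intro v x hx
    refine ⟨?_, sub_of_centralizes hV hXS v.2 (hXN v.2) x⟩
    exact T.mul_mem (T.inv_mem hx) ((Subgroup.mem_normalizer_iff.1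
      (le_normalizer_of_stronglyClosed hT (hVS v.2)) _).1 hx)
  have hγT : γ ∈ relKernel F (stronglyClosed_self F) hT hXS := by
    intro x _
    rw [hγv]
    obtain ⟨q, hq, c, hc', hxe⟩ : ∃ q ∈ Q, ∃ c ∈ centralizerIn S Q, (x : Ω) = q * c :=
      ResidualNormal.exists_mul le_rfl x.2
    have hxe' : x = Subgroup.inclusion le_sup_left (⟨q, hq⟩ : Q) *
        Subgroup.inclusion le_sup_right (⟨c, hc'⟩ : centralizerIn S Q) := Subtype.ext hxe
    rw [hxe', map_mul, hγQ]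
    show (q * c)⁻¹ * ((a ⟨q, hq⟩ : Q) * γ₀ ⟨c, _⟩) ∈ T
    have hqa : q⁻¹ * (a ⟨q, hq⟩ : Q) ∈ T := T.mul_mem (T.inv_mem (hQT hq)) (hQT (a _).2)
    have hcn := le_normalizer_of_stronglyClosed hT (S.inv_mem hc'.1)
    rw [show (q * c)⁻¹ * ((a ⟨q, hq⟩ : Q) * γ₀ ⟨c, hXM (Subgroup.mem_sup_right hc')⟩) =
      c⁻¹ * (q⁻¹ * (a ⟨q, hq⟩ : Q)) * c⁻¹⁻¹ * (c⁻¹ * γ₀ ⟨c, hXM (Subgroup.mem_sup_right hc')⟩) by
      group]
    exact T.mul_mem ((Subgroup.mem_normalizer_iff.1 hcn _).1 hqa) (hγ₀C ⟨c, _⟩ hc')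
  have hτS : ∀ v : V, ((γ * cv v * γ⁻¹ : F.autGroup X) : MulAut X) ∈ autInducedBy S X := by
    intro v
    have hmem : γ * cv v * γ⁻¹ * (cv v)⁻¹ ∈ K := by
      refine ⟨⟨?_, ?_⟩, ?_⟩
      · rw [mul_assoc _ γ⁻¹, mul_assoc γ]
        exact mul_mem hγT (by simpa [mul_assoc] using hnT.conj_mem _ (Subgroup.inv_mem _ hγT) (cv v))
      · exact mul_mem (hnR.conj_mem _ (hVmodR v) γ) (Subgroup.inv_mem _ (hVmodR v))
      · have hγ0 : γ ∈ relKernel F hR (stronglyClosed_bot' F) hXS := fun x hx => by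
          rw [hfixR x hx, inv_mul_cancel]; exact one_mem _
        rw [mul_assoc _ γ⁻¹, mul_assoc γ]
        exact mul_mem hγ0 (by simpa [mul_assoc] using hn0.conj_mem _ (Subgroup.inv_mem _ hγ0) (cv v))
    have h1 := mul_mem (mem_autInducedBy_of_normal hS hF hXn K hKn hKp hmem)
      (conjAut_mem_autInducedBy (hVS v.2) (hXN v.2))
    convert h1 using 1
    show _ = ((γ : MulAut X) * conjAut (hXN v.2) * (γ : MulAut X)⁻¹ * (conjAut (hXN v.2))⁻¹) *
      conjAut (hXN v.2)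
    rw [inv_mul_cancel_right]
    rfl
  have hext : X ⊔ V ≤ extender S X γ' := by
    refine sup_le (le_extender hXS fun x => apply_mem hγ x) fun v hv => ?_
    obtain ⟨w, hw, hwe⟩ := mem_autInducedBy_iff.1 (hτS ⟨v, hv⟩)
    refine mem_extender_iff.2 ⟨hVS hv, hXN hv, w, hw, fun x hx => ?_⟩
    have h1 := hwe ((γ : MulAut X) x)
    rw [hγv x] at h1
    refine Eq.trans ?_ h1
    show γ' ⟨v * (x : Ω) * v⁻¹, _⟩ = (((γ : MulAut X) (conjAut (hXN hv) ((γ : MulAut X)⁻¹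
      ((γ : MulAut X) x))) : X) : Ω)
    rw [MulAut.inv_apply_self, hγv]
    rfl
  obtain ⟨β, hβ, hβe⟩ := exists_extension (isReceptive_of_fullyNormalized hS hF hXn) hγ hγr hext
  have hXVS : X ⊔ V ≤ S := sup_le hXS hVS
  have := finite_of_le (Ω := Ω) hXVS
  have hβX : ∀ x : X, β (Subgroup.inclusion le_sup_left x) = γ' x := fun x => hβe x x.2 _
  have hβr : β.range = X ⊔ V := range_eq_of_le hβ hXVS (forall_sup_mem β
    (fun x => Subgroup.mem_sup_left (by rw [hβX, ← hγv]; exact ((γ : MulAut X) x).2))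
    fun v => Subgroup.mem_sup_right (apply_mem_closed hV hβ _ v.2)) le_rfl
  let B : MulAut ↥(X ⊔ V) := toAut hβ hβr
  have hQW : Q ≤ X ⊔ V := hQ'.trans le_sup_left
  have hBQ : ∀ x : Q, B (Subgroup.inclusion hQW x) = Subgroup.inclusion hQW (a x) := fun x =>
    Subtype.ext ((coe_toAut hβ hβr _).trans ((hβX (Subgroup.inclusion hQ' x)).trans (hγQ x)))
  obtain ⟨n, hn, hnQ⟩ := exists_coprime_ext_of_ext hQW hXVS hc hBQ
  have hWp : IsPGroup p ↥(X ⊔ V) := hS.to_le hXVS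
  have hBv : ∀ (m : ℕ) (z : ↥(X ⊔ V)), (z : Ω) ∈ V → (((B ^ m) z : ↥(X ⊔ V)) : Ω) ∈ V := by
    intro m
    induction m with
    | zero => exact fun z hz => hz
    | succ m ih =>
      intro z hz
      rw [pow_succ', MulAut.mul_apply]
      exact (coe_toAut hβ hβr _).symm ▸ apply_mem_closed hV hβ _ (ih z hz)
  have hfR : ∀ z : ↥(X ⊔ V), (z : Ω) ∈ T ⊓ V → (B ^ n) z = z := fun z hz => by
    rw [show z = Subgroup.inclusion hQW (⟨(z : Ω), hRQ hz⟩ : Q) from rfl, hnQ, hfix _ hz.2]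
  -- `C_V(Q)` is fixed
  have hfC : ∀ z : ↥(X ⊔ V), (z : Ω) ∈ V → (z : Ω) ∈ centralizerIn S Q → (B ^ n) z = z := by
    intro z hzV hzC
    have key : ∀ m : ℕ, (z : Ω)⁻¹ * (((B ^ m) z : ↥(X ⊔ V)) : Ω) ∈ T ⊓ V := by
      intro m
      refine ⟨?_, V.mul_mem (V.inv_mem hzV) (hBv m z hzV)⟩
      induction m with
      | zero => simp
      | succ m ih =>
        have hzX : (z : Ω) ∈ X := Subgroup.mem_sup_right hzC
        set w : ↥(X ⊔ V) := ⟨_, Subgroup.mem_sup_left (hQ' (hRQ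
          ⟨ih, V.mul_mem (V.inv_mem hzV) (hBv m z hzV)⟩))⟩ with hw
        have h1 : (B ^ m) z = z * w := Subtype.ext (mul_inv_cancel_left (z : Ω) _).symm
        rw [pow_succ', MulAut.mul_apply, h1, map_mul, Subgroup.coe_mul, ← mul_assoc]
        refine T.mul_mem ?_ ?_
        · rw [coe_toAut, show z = Subgroup.inclusion le_sup_left (⟨(z : Ω), hzX⟩ : X) from rfl, hβX]
          exact hγ₀C ⟨(z : Ω), hXM hzX⟩ hzC
        · rw [coe_toAut]
          exact apply_mem_closed hT hβ w ih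
    exact eq_self_of_translate hWp hn (hfR _ (key n))
  refine ⟨((X ⊔ V).subtype.comp (B ^ n).toMonoidHom).comp
    (Subgroup.inclusion (sup_le hQW le_sup_right)), ?_,
    fun x => congrArg Subtype.val (hnQ x), fun v => ?_⟩
  · exact restrict_mem ((mem_autGroup_iff hXVS).1 (pow_mem (toAut_mem hβ hβr) n)) _
  set z : ↥(X ⊔ V) := ⟨v, Subgroup.mem_sup_right v.2⟩ with hz
  suffices h : (B ^ n) z = z from congrArg Subtype.val h
  have hmem : (z : Ω)⁻¹ * (((B ^ n) z : ↥(X ⊔ V)) : Ω) ∈ V :=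
    V.mul_mem (V.inv_mem v.2) (hBv n z v.2)
  refine eq_self_of_translate hWp hn (hfC _ hmem (mem_centralizerIn.2 ⟨hVS hmem, fun x hx => ?_⟩))
  obtain ⟨y, hy⟩ := a.surjective ⟨x, hx⟩
  obtain rfl : ((a y : Q) : Ω) = x := congrArg Subtype.val hy
  have h1 : ((a (conjAut (hVN v.2) y) : Q) : Ω) =
      ((B ^ n) z : Ω) * (a y : Q) * ((B ^ n) z : Ω)⁻¹ := by
    have e1 := congrArg Subtype.val (hnQ y)
    have e2 := congrArg Subtype.val (hnQ (conjAut (hVN v.2) y))
    rw [show Subgroup.inclusion hQW (conjAut (hVN v.2) y) =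
      z * Subgroup.inclusion hQW y * z⁻¹ from Subtype.ext rfl, map_mul, map_mul, map_inv] at e2
    simp only [Subgroup.coe_mul, Subgroup.coe_inv] at e2
    rw [e1] at e2
    exact e2.symm
  have h2 := congrArg Subtype.val (DFunLike.congr_fun (hcomm v v.2) y)
  rw [MulAut.mul_apply, MulAut.mul_apply, h1] at h2
  change _ = (v : Ω) * (a y : Q) * (v : Ω)⁻¹ at h2
  show (a y : Q) * ((v : Ω)⁻¹ * ((B ^ n) z : Ω)) = (v : Ω)⁻¹ * ((B ^ n) z : Ω) * (a y : Q)
  calc (a y : Q) * ((v : Ω)⁻¹ * ((B ^ n) z : Ω))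
      = (v : Ω)⁻¹ * ((v : Ω) * (a y : Q) * (v : Ω)⁻¹) * ((B ^ n) z : Ω) := by group
    _ = (v : Ω)⁻¹ * (((B ^ n) z : Ω) * (a y : Q) * ((B ^ n) z : Ω)⁻¹) * ((B ^ n) z : Ω) := by
      rw [h2]
    _ = (v : Ω)⁻¹ * ((B ^ n) z : Ω) * (a y : Q) := by group

end Cfsg.Agent.Fusion.Components
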